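import Cfsg.Agent.H37.Twist.D4
import Cfsg.Agent.H37.Twist.Result

/-!
`³D₄(q)`: the torus `ζ(w)` of the fundamental long root Levi subgroup, its characters, the twelve
elements of the folded Weyl group, and the normal form of the elements commuting with the torus.
-/
set_option autoImplicit false
set_option maxRecDepth 100000

namespace Cfsg.Agent.D4Cyclic

open Cfsg.Lie Cfsg.Agent.H37 Cfsg.Agent.H37.RootSys Cfsg.Agent.H37.NormalForm
  Cfsg.Agent.H37.Twist Cfsg.Agent.H37.Twist.D4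

variable {K : Type*} [Field K] {φ : K →+* K} {q : ℕ}

/-- Parameters of fixed torus elements. -/
def par (q : ℕ) (u y : Kˣ) : Fin chevD4.rank → Kˣ := ![u, y, u ^ q, (u ^ q) ^ q]

theorem par_mul (q : ℕ) (u y u' y' : Kˣ) :
    par q (u * u') (y * y') = par q u y * par q u' y' := by
  refine D4.four_ext ?_ ?_ ?_ ?_
  · rfl
  · rfl
  · exact mul_pow u u' q
  · show ((u * u') ^ q) ^ q = (u ^ q) ^ q * (u' ^ q) ^ q
    rw [mul_pow, mul_pow]

theorem par_one (q : ℕ) : par (K := K) q 1 1 = 1 := by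
  refine D4.four_ext rfl rfl ?_ ?_
  · exact one_pow q
  · show ((1 : Kˣ) ^ q) ^ q = 1
    rw [one_pow, one_pow]

/-- The norm exponent. -/
def nexp (q : ℕ) : ℕ := 1 + q + q * q

/-- The torus parameters of `ζ(w)`. -/
def zc (q : ℕ) (w : Kˣ) : Fin chevD4.rank → Kˣ := par q (w ^ 2) (w ^ nexp q)

/-- The three coefficients of the character of a root on the torus `ζ`. -/
def coef (r : ℕ) : ℤ × ℤ × ℤ :=
  (2 * chevD4.cartan 0 r + chevD4.cartan 1 r, 2 * chevD4.cartan 2 r + chevD4.cartan 1 r,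
    2 * chevD4.cartan 3 r + chevD4.cartan 1 r)

/-- The exponent attached to a coefficient triple. -/
def ev (q : ℕ) (e : ℤ × ℤ × ℤ) : ℤ := e.1 + e.2.1 * q + e.2.2 * ((q : ℤ) * q)

/-- The exponent of a root. -/
def ex (q r : ℕ) : ℤ := ev q (coef r)

theorem chT_par (u y : Kˣ) (r : ℕ) :
    chT (par q u y) r = u ^ chevD4.cartan 0 r * y ^ chevD4.cartan 1 r *
      (u ^ q) ^ chevD4.cartan 2 r * ((u ^ q) ^ q) ^ chevD4.cartan 3 r := by
  show ∏ m : Fin 4, par q u y m ^ chevD4.cartan m.val r = _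
  rw [Fin.prod_univ_four]
  rfl

theorem chT_zc (w : Kˣ) (r : ℕ) : chT (zc q w) r = w ^ ex q r := by
  rw [zc, chT_par]
  simp only [← zpow_natCast, ← zpow_mul, ← zpow_add]
  congr 1
  simp only [ex, ev, coef, nexp]
  push_cast
  ring

theorem chT_par_14 (u y : Kˣ) :
    chT (par q u y) 14 = y ^ 2 * (u ^ nexp q)⁻¹ := by
  rw [chT_par, show chevD4.cartan 0 14 = -1 by decide +kernel,
    show chevD4.cartan 1 14 = 2 by decide +kernel, show chevD4.cartan 2 14 = -1 by decide +kernel,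
    show chevD4.cartan 3 14 = -1 by decide +kernel, nexp, pow_add, pow_add, pow_one, pow_mul]
  simp only [zpow_neg, zpow_ofNat, pow_one, mul_inv]
  ac_rfl

theorem chT_par_9 (u y : Kˣ) :
    chT (par q u y) 9 = (chT (par q u y) 14)⁻¹ := by
  rw [chT_par, chT_par]
  simp only [show chevD4.cartan 0 9 = -chevD4.cartan 0 14 by decide +kernel,
    show chevD4.cartan 1 9 = -chevD4.cartan 1 14 by decide +kernel,
    show chevD4.cartan 2 9 = -chevD4.cartan 2 14 by decide +kernel,
    show chevD4.cartan 3 9 = -chevD4.cartan 3 14 by decide +kernel, zpow_neg, mul_inv]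

variable [Fintype K]

theorem par_fixed (hK : Fintype.card K = q ^ 3) (u : Kˣ) {y : Kˣ} (hy : y ^ q = y) :
    (endo φ).hat (fun _ => q) (par q u y) = par q u y :=
  ((fixParam (φ := φ) hK).symm (u, ⟨y, hy⟩)).2

theorem exists_par (hφ : ∀ t, φ t = t ^ q) (hK : Fintype.card K = q ^ 3) {h : ↥(chevD4.group K)}
    (hh : h ∈ (QD K).sys.H) (hfix : (endo φ).σ h = h) :
    ∃ u y : Kˣ, y ^ q = y ∧ tG (QD K) (par q u y) = h := by
  obtain ⟨c, hc, e⟩ := exists_fixed hφ hK hh hfix
  set p := fixParam (φ := φ) hK ⟨c, hc⟩ with hp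
  have hc' : par q p.1 p.2.1 = c :=
    congrArg Subtype.val ((fixParam (φ := φ) hK).symm_apply_apply ⟨c, hc⟩)
  exact ⟨p.1, p.2.1, p.2.2, by rw [hc']; exact e⟩

theorem σ_par (hφ : ∀ t, φ t = t ^ q) (hK : Fintype.card K = q ^ 3) (u : Kˣ) {y : Kˣ}
    (hy : y ^ q = y) : (endo φ).σ (tG (QD K) (par q u y)) = tG (QD K) (par q u y) := by
  rw [(endo φ).σ_tG (noSign hφ), par_fixed hK u hy]

theorem norm_fixed (hK : Fintype.card K = q ^ 3) (u : Kˣ) : (u ^ nexp q) ^ q = u ^ nexp q := by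
  have h := units_pow_three hK u
  rw [nexp, pow_add, pow_add, pow_one, mul_pow, mul_pow, pow_mul, h, mul_comm (u ^ q * _) u,
    mul_assoc]

/-- The words of the twelve elements of the folded group. -/
def words : List (List ℕ) :=
  [[], [0, 2, 3], [1], [0, 2, 3, 1], [1, 0, 2, 3], [0, 2, 3, 1, 0, 2, 3], [1, 0, 2, 3, 1],
    [0, 2, 3, 1, 0, 2, 3, 1], [1, 0, 2, 3, 1, 0, 2, 3], [0, 2, 3, 1, 0, 2, 3, 1, 0, 2, 3],
    [1, 0, 2, 3, 1, 0, 2, 3, 1], [0, 2, 3, 1, 0, 2, 3, 1, 0, 2, 3, 1]]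

theorem words_lt : ∀ v ∈ words, ∀ a ∈ v, a < 4 := by decide +kernel

theorem words_closed : ∀ i : Fin 2, ∀ v ∈ words, words.any (fun v' =>
    (List.range 24).all fun r =>
      Weyl.certD4.act (H37.Fold.dataD4.word i.val ++ v) r == Weyl.certD4.act v' r) = true := by
  decide +kernel

omit [Fintype K] in
theorem wOf_eq_of_act {v v' : List ℕ} (hv : ∀ a ∈ v, a < 4) (hv' : ∀ a ∈ v', a < 4)
    (h : ∀ r < 24, Weyl.certD4.act v r = Weyl.certD4.act v' r) :
    Weyl.wOf (QD K).X.M v = Weyl.wOf (QD K).X.M v' := by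
  refine (QD K).X.good.hom_injective (Equiv.ext fun r => Fin.ext ?_)
  rw [(QD K).X.good.hom_wOf_val hv, (QD K).X.good.hom_wOf_val hv']
  exact h r.val r.isLt

omit [Fintype K] in
/-- Every element of the folded group is given by one of the twelve words. -/
theorem exists_word (φ : K →+* K) (a : CoxeterMatrix.G₂.Group) :
    ∃ v ∈ words, (fold φ).ι a = Weyl.wOf (QD K).X.M v := by
  induction a using CoxeterMatrix.G₂.toCoxeterSystem.simple_induction_left with
  | one => exact ⟨[], by simp [words], by rw [map_one, Weyl.wOf_nil]⟩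
  | mul_simple_left g i ih =>
      obtain ⟨v, hv, e⟩ := ih
      have h := words_closed i v hv
      simp only [List.any_eq_true, List.all_eq_true, List.mem_range, beq_iff_eq] at h
      obtain ⟨v', hv', h'⟩ := h
      refine ⟨v', hv', ?_⟩
      rw [map_mul, e, show (fold φ).ι (CoxeterMatrix.G₂.toCoxeterSystem.simple i) =
        (fold φ).ι ((fold φ).gens i) from rfl, ι_gen, ← Weyl.wOf_append]
      refine wOf_eq_of_act (fun a ha => ?_) (words_lt v' hv') h'
      rcases List.mem_append.1 ha with ha | ha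
      · exact D4.word_ok i a ha
      · exact words_lt v hv a ha

/-- The word product of fundamental representatives, taken at parameter `1`. -/
noncomputable def nword (K : Type*) [Field K] (v : List ℕ) : ↥(chevD4.group K) :=
  (v.map fun i => nUG (QD K) (chevD4.simple i) 1).prod

/-- The positive roots. -/
def posL : List ℕ := [12, 13, 14, 15, 16, 17, 18, 19, 20, 21, 22, 23]

theorem posL_set : (↑posL.toFinset : Set ℕ) = ↑(posSet chevD4) := by
  rw [Finset.coe_inj]
  decide +kernel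

omit [Fintype K] in
theorem exists_coords {u : ↥(chevD4.group K)} (hu : u ∈ (QD K).sys.U) :
    ∃ t, u = xprod (QD K) posL t := by
  refine exists_xprod (QD K) (by decide +kernel) ?_ ?_
  · rw [show posL.toFinset = (QD K).sys.toUnip.P from
      (Finset.coe_injective posL_set).trans (QD K).sys.P_eq.symm]
    exact (QD K).sys.toUnip.closed_P
  · rw [posL_set]; exact hu

omit [Fintype K] in
theorem xprod_conj' {L : List ℕ} (hL : ∀ r ∈ L, r < chevD4.nroots) (c : Fin chevD4.rank → Kˣ)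
    (t : ℕ → K) : tG (QD K) c * xprod (QD K) L t * (tG (QD K) c)⁻¹
      = xprod (QD K) L fun r => (chT c r : K) * t r := by
  rw [← MulAut.conj_apply, xprod, map_list_prod, xprod, List.map_map]
  exact congrArg List.prod (List.map_congr_left fun r hr => tG_conj (QD K) c (hL r hr) (t r))

omit [Fintype K] in
theorem coords_inj {t t' : ℕ → K} (h : xprod (QD K) posL t = xprod (QD K) posL t') :
    ∀ r ∈ posL, t r = t' r := by
  refine xprod_inj (QD K) (by decide +kernel) ?_ h
  rw [show posL.toFinset = (QD K).sys.toUnip.P from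
    (Finset.coe_injective posL_set).trans (QD K).sys.P_eq.symm]
  exact (QD K).sys.toUnip.closed_P

omit [Fintype K] in
theorem xG_zero {r : ℕ} (hr : r < chevD4.nroots) : xG (QD K).K K r (0 : K) = 1 :=
  (QD K).sys.x_zero' hr

omit [Fintype K] in
theorem xprod_sublist {L : List ℕ} (hL : ∀ r ∈ L, r < chevD4.nroots) (t : ℕ → K) (p : ℕ → Bool)
    (h : ∀ r ∈ L, p r = false → t r = 0) :
    xprod (QD K) L t = xprod (QD K) (L.filter p) t := by
  induction L with
  | nil => rfl
  | cons a L ih =>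
      have ih' := ih (fun r hr => hL r (List.mem_cons_of_mem a hr))
        (fun r hr => h r (List.mem_cons_of_mem a hr))
      rcases hp : p a with _ | _
      · rw [List.filter_cons_of_neg (by simp [hp]), xprod_cons, h a (by simp) hp,
          xG_zero (hL a (by simp)), one_mul, ih']
      · rw [List.filter_cons_of_pos hp, xprod_cons, xprod_cons, ih']

omit [Fintype K] in
/-- The word representatives move root elements linearly. -/
theorem nword_conj : ∀ {v : List ℕ}, (∀ i ∈ v, i < 4) → ∀ {r : ℕ}, r < chevD4.nroots →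
    Weyl.certD4.act v r < chevD4.nroots ∧ ∃ d : K, d ≠ 0 ∧ ∀ t : K,
      nword K v * xe r t * (nword K v)⁻¹ = xe (Weyl.certD4.act v r) (d * t)
  | [], _, r, hr => ⟨hr, 1, one_ne_zero, fun t => by simp [nword, Weyl.Cert.act]⟩
  | i :: v, hv, r, hr => by
      obtain ⟨hlt, d, hd0, hd⟩ := nword_conj (v := v) (fun j hj => hv j (List.mem_cons_of_mem i hj)) hr
      have hi : i < 4 := hv i (by simp)
      have hlt' := ((QD K).X.good.sigma_spec hi hlt).1
      refine ⟨hlt', ((QD K).K.sg i (Weyl.certD4.act v r) : K) * d, mul_ne_zero ?_ hd0, fun t => ?_⟩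
      · rcases (QD K).K.sg_pm i (Weyl.certD4.act v r) with h | h <;> simp [h]
      · have e : xe (Weyl.certD4.sigma i (Weyl.certD4.act v r))
            (((QD K).K.sg i (Weyl.certD4.act v r) : K) * (d * t))
            = nUG (QD K) (chevD4.simple i) 1 * xe (Weyl.certD4.act v r) (d * t) *
              (nUG (QD K) (chevD4.simple i) 1)⁻¹ := by
          refine Subtype.ext ?_
          show (QD K).K.xU K _ _ = (QD K).K.nS K i * (QD K).K.xU K _ _ * ((QD K).K.nS K i)⁻¹
          rw [(QD K).K.nS_conj_xU K hi hlt, ← RootSys.sigma_eq_w (QD K).X.good (QD K).K hi hlt]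
          rfl
        show _ = xe (Weyl.certD4.sigma i (Weyl.certD4.act v r)) _
        rw [mul_assoc (_ : K), e, ← hd t, show nword K (i :: v)
          = nUG (QD K) (chevD4.simple i) 1 * nword K v from List.prod_cons]
        group

/-- Normal form of a fixed element commuting with every `ζ(w)`. -/
theorem cent_form (hφ : ∀ t, φ t = t ^ q) (hK : Fintype.card K = q ^ 3) {g : ↥(chevD4.group K)}
    (hg : (endo φ).σ g = g)
    (hc : ∀ w : Kˣ, g * tG (QD K) (zc q w) = tG (QD K) (zc q w) * g) :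
    ∃ t s : ℕ → K, ∃ h ∈ (QD K).sys.H, ∃ v ∈ words,
      g = xprod (QD K) posL t * h * nword K v * xprod (QD K) posL s ∧
      (endo φ).σ (xprod (QD K) posL t) = xprod (QD K) posL t ∧
      (endo φ).σ (xprod (QD K) posL s) = xprod (QD K) posL s ∧
      (endo φ).σ (h * nword K v) = h * nword K v ∧
      xprod (QD K) posL s ∈ (QD K).sys.Uw (Weyl.wOf (QD K).X.M v) ∧
      (∀ r ∈ posL, (∃ w : Kˣ, w ^ ex q r ≠ 1) → t r = 0 ∧ s r = 0) ∧
      ∀ r < 24, ∀ w : Kˣ, w ^ ex q (Weyl.certD4.act v r) = w ^ ex q r := by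
  set Md := model hφ hK
  obtain ⟨u, hu, h, hh, x, v, hv, rfl⟩ := Md.amb.exists_eq g
  obtain ⟨hτ, hu', hh', hv'⟩ := (Md.compat.fixed_iff hu hh hv).1 hg
  obtain ⟨a, rfl⟩ := ((fold φ).ι_range x).1 hτ
  obtain ⟨wd, hwd, ea⟩ := exists_word φ a
  set n := Md.amb.n ((fold φ).ι a) with hn
  have key : ∀ c : Fin chevD4.rank → Kˣ,
      u * h * n * v * tG (QD K) c = tG (QD K) c * (u * h * n * v) →
      tG (QD K) c * u * (tG (QD K) c)⁻¹ = u ∧ tG (QD K) c * v * (tG (QD K) c)⁻¹ = v ∧
        n * tG (QD K) c = tG (QD K) c * n := by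
    intro c hcomm
    set k := tG (QD K) c
    have hkH : k ∈ Md.amb.H := tG_mem (QD K) c
    have hn' : n * k⁻¹ * n⁻¹ ∈ Md.amb.H := Md.amb.n_conj_H _ _ (inv_mem hkH)
    have e : (k * u * k⁻¹) * (k * h * (n * k⁻¹ * n⁻¹)) * n * (k * v * k⁻¹) = u * h * n * v := by
      rw [show (k * u * k⁻¹) * (k * h * (n * k⁻¹ * n⁻¹)) * n * (k * v * k⁻¹)
        = k * (u * h * n * v) * k⁻¹ by group, ← hcomm]
      group
    have hvU : k * v * k⁻¹ ∈ Md.amb.Uw ((fold φ).ι a) := by
      refine conj_mem_XS (fun r hr t => ?_) hv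
      obtain ⟨t', e'⟩ := (QD K).sys.h_conj k hkH r (Sys.mem_flip.1 hr).1 t
      rw [e']
      exact x_mem_XS hr t'
    obtain ⟨-, h1, h2, h3⟩ := Md.amb.unique (Md.amb.H_conj_U k hkH u hu) hu
      (mul_mem (mul_mem hkH hh) hn') hh hvU hv e
    refine ⟨h1, h3, ?_⟩
    obtain ⟨d, hd⟩ := exists_tG (QD K) hh
    have hc' : k * h = h * k := by rw [← hd, ← map_mul, mul_comm, map_mul]
    rw [hc', mul_assoc, mul_eq_left] at h2
    have h4 : Commute n k⁻¹ := by
      show n * k⁻¹ = k⁻¹ * n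
      rw [← mul_inv_eq_iff_eq_mul]
      exact (inv_eq_of_mul_eq_one_right h2).symm
    exact (Commute.inv_right_iff.1 h4).eq
  obtain ⟨t, rfl⟩ := exists_coords hu
  obtain ⟨s, rfl⟩ := exists_coords (Md.amb.Uw_le _ hv)
  obtain ⟨k1, hk1, e1⟩ := Md.rep_spec ((fold φ).ι a)
  obtain ⟨k2, hk2, e2⟩ := rep_word (QD K) wd (words_lt wd hwd)
  have en : n = k1 * k2⁻¹ * nword K wd := by
    rw [hn, show Md.amb.n ((fold φ).ι a) = Md.rep ((fold φ).ι a) from rfl, e1, ea,
      show nword K wd = _ from e2]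
    group
  refine ⟨t, s, h * (k1 * k2⁻¹), mul_mem hh (mul_mem hk1 (inv_mem hk2)), wd, hwd, ?_, hu', hv', ?_,
    ea ▸ hv, fun r hr ⟨w, hw⟩ => ?_, fun r hr w => ?_⟩
  · rw [en]; group
  · rw [mul_assoc h, ← en, map_mul, hh', Md.compat.n_fixed hτ]
  · have hlt : ∀ r ∈ posL, r < chevD4.nroots := by decide +kernel
    obtain ⟨h1, h2, -⟩ := key (zc q w) (hc w)
    rw [xprod_conj' hlt] at h1 h2
    have hne : ((chT (zc q w) r : Kˣ) : K) - 1 ≠ 0 := by
      rw [chT_zc, sub_ne_zero]
      exact fun e => hw (Units.ext e)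
    have a1 := coords_inj h1 r hr
    have a2 := coords_inj h2 r hr
    exact ⟨(mul_eq_zero.1 (show _ * t r = 0 by rw [sub_mul, one_mul, a1, sub_self])).resolve_left
      hne, (mul_eq_zero.1 (show _ * s r = 0 by rw [sub_mul, one_mul, a2, sub_self])).resolve_left
      hne⟩
  · obtain ⟨-, -, h3⟩ := key (zc q w) (hc w)
    set k := tG (QD K) (zc q w)
    have hk12 : Commute (k1 * k2⁻¹) k := by
      obtain ⟨d, hd⟩ := exists_tG (QD K) (mul_mem hk1 (inv_mem hk2))
      rw [← hd]
      show tG (QD K) d * tG (QD K) (zc q w) = tG (QD K) (zc q w) * tG (QD K) d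
      rw [← map_mul, mul_comm, map_mul]
    have h5 : nword K wd * k = k * nword K wd := by
      rw [en, mul_assoc, ← mul_assoc k, ← hk12.eq, mul_assoc (k1 * k2⁻¹)] at h3
      exact mul_left_cancel h3
    obtain ⟨hlt, d, hd0, hd⟩ := nword_conj (K := K) (words_lt wd hwd) hr
    have e := congrArg (fun x => x * xe r (1 : K) * x⁻¹) h5
    simp only [mul_inv_rev] at e
    rw [show nword K wd * k * xe r (1 : K) * (k⁻¹ * (nword K wd)⁻¹)
        = nword K wd * (k * xe r (1 : K) * k⁻¹) * (nword K wd)⁻¹ by group,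
      show k * nword K wd * xe r (1 : K) * ((nword K wd)⁻¹ * k⁻¹)
        = k * (nword K wd * xe r (1 : K) * (nword K wd)⁻¹) * k⁻¹ by group,
      tG_conj (QD K) (zc q w) hr, hd, hd, tG_conj (QD K) (zc q w) hlt, mul_one, mul_one,
      mul_comm d] at e
    have := mul_right_cancel₀ hd0 (xG_inj (QD K) hlt e)
    rw [chT_zc, chT_zc] at this
    exact (Units.ext this).symm

end Cfsg.Agent.D4Cyclic
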