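import Mathlib
import Cfsg.Agent.H37.Twist.Graph

/-!
The cyclic torus of order `q² - 1` in `GL₂(q)`, its self-centralising property, and a generator of
`𝔽_{q³}ˣ` with the same norm.
-/
set_option autoImplicit false

namespace Cfsg.Agent.D4Cyclic

open Module

theorem exists_coprime_lift {m n j : ℕ} (hnm : n ∣ m) (hm : m ≠ 0) (hj : j.Coprime n) :
    ∃ k : ℕ, k.Coprime m ∧ k % n = j % n := by
  haveI : NeZero m := ⟨hm⟩
  obtain ⟨u, hu⟩ := ZMod.unitsMap_surjective hnm (ZMod.unitOfCoprime j hj)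
  refine ⟨(u : ZMod m).val, ZMod.val_coe_unit_coprime u, ?_⟩
  have h := congrArg Units.val hu
  rw [ZMod.coe_unitOfCoprime, ZMod.unitsMap_def, Units.coe_map] at h
  refine (ZMod.natCast_eq_natCast_iff' _ _ _).1 ?_
  rw [ZMod.natCast_val, ← ZMod.castHom_apply (h := hnm)]
  exact h

theorem mem_zpowers_of_commute {F L : Type*} [Field F] [Field L] [Algebra F L] [Finite L]
    (γ : Lˣ) (hγ : ∀ x : Lˣ, x ∈ Subgroup.zpowers γ) (f : L →ₗ[F] L)
    (hf : ∀ x, f ((γ : L) * x) = (γ : L) * f x) : ∀ x, f x = f 1 * x := by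
  intro x
  rcases eq_or_ne x 0 with rfl | hx
  · simp
  obtain ⟨n, hn⟩ := (mem_powers_iff_mem_zpowers (x := γ) (y := Units.mk0 x hx)).2 (hγ _)
  have key : ∀ n : ℕ, f ((γ : L) ^ n) = f 1 * (γ : L) ^ n := by
    intro n
    induction n with
    | zero => simp
    | succ n ih => rw [pow_succ', hf, ih]; ring
  have e : (γ : L) ^ n = x := by
    simpa using congrArg Units.val (show γ ^ n = Units.mk0 x hx from hn)
  rw [← e, key]

variable {K : Type*} [Field K] [Fintype K] {φ : K →+* K} {q : ℕ}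

/-- The data of the torus. -/
theorem exists_torus (hφ : ∀ t, φ t = t ^ q) (hK : Fintype.card K = q ^ 3) (hq : 2 ≤ q) :
    ∃ (γ : GL (Fin 2) K) (η : Kˣ),
      (∀ i j, φ ((γ : Matrix (Fin 2) (Fin 2) K) i j) = (γ : Matrix (Fin 2) (Fin 2) K) i j) ∧
      orderOf γ = q ^ 2 - 1 ∧ orderOf η = q ^ 3 - 1 ∧
      (γ : Matrix (Fin 2) (Fin 2) K).det = ((η ^ (1 + q + q * q) : Kˣ) : K) ∧
      orderOf (η ^ (1 + q + q * q)) = q - 1 ∧
      ∀ g : GL (Fin 2) K,
        (∀ i j, φ ((g : Matrix (Fin 2) (Fin 2) K) i j) = (g : Matrix (Fin 2) (Fin 2) K) i j) →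
        g * γ = γ * g → ∃ n : ℕ, g = γ ^ n := by
  classical
  set F : Subfield K := φ.eqLocusField (RingHom.id K) with hF
  have memF : ∀ t : K, t ∈ F ↔ t ^ q = t := fun t => by
    rw [← hφ]; rfl
  have hd : q - 1 ∣ Fintype.card K - 1 := by
    rw [hK]; simpa using Nat.sub_dvd_pow_sub_pow q 1 3
  have hcF : Nat.card F = q := by
    rw [← (H37.Twist.card_pow_eq_self hq hd).2]
    exact Nat.card_congr (Equiv.subtypeEquivRight memF)
  obtain ⟨p, hp⟩ := CharP.exists F
  haveI : Fact p.Prime := ⟨(CharP.char_is_prime_or_zero F p).resolve_right (CharP.char_ne_zero_of_finite F p)⟩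
  let L := FiniteField.Extension F p 2
  have hL : Module.finrank F L = 2 := FiniteField.finrank_extension F p 2
  have hcL : Nat.card L = q ^ 2 := by rw [FiniteField.natCard_extension, hcF]
  haveI : Fintype L := Fintype.ofFinite L
  let b : Basis (Fin 2) F L := Module.finBasisOfFinrankEq F L hL
  let toK : L →+* Matrix (Fin 2) (Fin 2) K :=
    (F.subtype.mapMatrix).comp (Algebra.leftMulMatrix b).toRingHom
  have toK_inj : Function.Injective toK := by
    intro x y e
    exact Algebra.leftMulMatrix_injective b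
      (Matrix.map_injective (Subtype.val_injective) e)
  let U : Lˣ →* GL (Fin 2) K := Units.map toK.toMonoidHom
  have U_inj : Function.Injective U := fun x y e => Units.ext (toK_inj (congrArg Units.val e))
  obtain ⟨γ0, hγ0⟩ := IsCyclic.exists_generator (α := Lˣ)
  have oγ : orderOf γ0 = q ^ 2 - 1 := by
    rw [orderOf_eq_card_of_forall_mem_zpowers hγ0, Nat.card_units, hcL]
  -- the norm
  set N : Lˣ →* Fˣ := Units.map (Algebra.norm F (S := L))
  have hN : ∀ y : Fˣ, y ∈ Subgroup.zpowers (N γ0) := by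
    intro y
    obtain ⟨x, rfl⟩ := FiniteField.unitsMap_norm_surjective F L y
    obtain ⟨i, rfl⟩ := Subgroup.mem_zpowers_iff.1 (hγ0 x)
    exact Subgroup.mem_zpowers_iff.2 ⟨i, (map_zpow N γ0 i).symm⟩
  set d : Kˣ := Units.map F.subtype.toMonoidHom (N γ0) with hdd
  have od : orderOf d = q - 1 := by
    rw [hdd, orderOf_injective _ (fun x y e => Units.ext (Subtype.ext (congrArg Units.val e))),
      orderOf_eq_card_of_forall_mem_zpowers hN, Nat.card_units, hcF]
  obtain ⟨η0, hη0⟩ := IsCyclic.exists_generator (α := Kˣ)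
  have oη : orderOf η0 = q ^ 3 - 1 := by
    rw [orderOf_eq_card_of_forall_mem_zpowers hη0, Nat.card_units, Nat.card_eq_fintype_card, hK]
  set e := 1 + q + q * q with he
  have hfac : q ^ 3 - 1 = (q - 1) * e := by
    obtain ⟨r, rfl⟩ : ∃ r, q = r + 1 := ⟨q - 1, by omega⟩
    rw [he, Nat.add_sub_cancel]
    refine Nat.sub_eq_of_eq_add ?_
    ring
  have hepos : 0 < e := by omega
  have oe : orderOf (η0 ^ e) = q - 1 := by
    rw [orderOf_pow' _ hepos.ne', oη, hfac, Nat.gcd_mul_left_left, Nat.mul_div_cancel _ hepos]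
  obtain ⟨i, hi⟩ := (mem_powers_iff_mem_zpowers (x := η0) (y := d)).2 (hη0 d)
  change η0 ^ i = d at hi
  have hdiv : q ^ 3 - 1 ∣ i * (q - 1) := by
    rw [← oη, orderOf_dvd_iff_pow_eq_one, pow_mul, hi, ← od, pow_orderOf_eq_one]
  obtain ⟨j, rfl⟩ : e ∣ i := by
    rw [hfac, mul_comm i] at hdiv
    exact Nat.dvd_of_mul_dvd_mul_left (by omega) hdiv
  have hj : j.Coprime (q - 1) := by
    have h1 : orderOf ((η0 ^ e) ^ j) = q - 1 := by rw [← pow_mul, hi, od]
    rw [(isOfFinOrder_of_finite _).orderOf_pow, oe] at h1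
    rw [Nat.coprime_comm]
    exact Nat.eq_one_of_mul_eq_one_left (n := (q - 1).gcd j) (m := 1) (by
      have hpos : 0 < q - 1 := by omega
      have := Nat.div_mul_cancel (Nat.gcd_dvd_left (q - 1) j)
      rw [h1] at this
      rw [one_mul]
      exact Nat.eq_of_mul_eq_mul_left hpos (by rw [this, mul_one]))
  have hm : q ^ 3 - 1 ≠ 0 := by
    rw [hfac]; exact Nat.mul_ne_zero (by omega) hepos.ne'
  obtain ⟨k, hk, hkj⟩ := exists_coprime_lift (Dvd.intro e hfac.symm) hm hj
  refine ⟨U γ0, η0 ^ k, fun r c => ?_, by rw [orderOf_injective U U_inj, oγ], ?_, ?_, ?_, ?_⟩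
  · exact (Algebra.leftMulMatrix b (γ0 : L) r c).2
  · rw [(show Nat.Coprime (orderOf η0) k by rw [oη]; exact hk.symm).orderOf_pow, oη]
  · have h1 : (η0 ^ k) ^ e = d := by
      rw [← hi, ← pow_mul, mul_comm k, pow_mul, pow_mul, ← pow_mod_orderOf, oe, hkj, ← oe,
        pow_mod_orderOf]
    rw [h1]
    show (F.subtype.mapMatrix (Algebra.leftMulMatrix b (γ0 : L))).det = _
    rw [← RingHom.map_det, ← Algebra.norm_eq_matrix_det b]
    rfl
  · rw [← pow_mul, mul_comm k, pow_mul]
    rw [(show Nat.Coprime (orderOf (η0 ^ e)) k by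
      rw [oe]; exact (hk.of_dvd_right (Dvd.intro e hfac.symm)).symm).orderOf_pow, oe]
  · intro g hg hc
    let g' : Matrix (Fin 2) (Fin 2) F := fun r c => ⟨(g : Matrix (Fin 2) (Fin 2) K) r c, hg r c⟩
    have hg' : F.subtype.mapMatrix g' = (g : Matrix (Fin 2) (Fin 2) K) := rfl
    have hc' : g' * Algebra.leftMulMatrix b (γ0 : L) = Algebra.leftMulMatrix b (γ0 : L) * g' := by
      refine (show Function.Injective F.subtype.mapMatrix from
        fun x y e => Matrix.map_injective Subtype.val_injective e) ?_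
      rw [map_mul, map_mul, hg']
      exact congrArg Units.val hc
    have hf : ∀ x, Matrix.toLin b b g' ((γ0 : L) * x) = (γ0 : L) * Matrix.toLin b b g' x := by
      intro x
      have := congrArg (fun M => Matrix.toLin b b M x) hc'
      simp only [Matrix.toLin_mul b b b, LinearMap.comp_apply] at this
      rwa [Algebra.leftMulMatrix_apply, Matrix.toLin_toMatrix] at this
    set a := Matrix.toLin b b g' 1
    have hlin : Matrix.toLin b b g' = Algebra.lmul F L a :=
      LinearMap.ext (mem_zpowers_of_commute γ0 hγ0 _ hf)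
    have hga : g' = Algebra.leftMulMatrix b a := by
      rw [Algebra.leftMulMatrix_apply, ← hlin, LinearMap.toMatrix_toLin]
    have ha : a ≠ 0 := fun h0 => by
      rw [h0, map_zero] at hga
      apply g.ne_zero
      rw [← hg', hga, map_zero]
    obtain ⟨n, hn⟩ := (mem_powers_iff_mem_zpowers (x := γ0) (y := Units.mk0 a ha)).2 (hγ0 _)
    refine ⟨n, ?_⟩
    rw [← map_pow, show γ0 ^ n = Units.mk0 a ha from hn]
    refine Units.ext ?_
    rw [← hg', hga]
    rfl

end Cfsg.Agent.D4Cyclic
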