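import Cfsg.Agent.D4Cyclic.Basic
import Cfsg.Agent.Chevalley.RankOne

/-!
`³D₄(q)`: the Levi subgroup of the fundamental long root, as a homomorphic image of the pairs
`(u, g)` with `g ∈ GL₂(q)` and `det g` equal to the norm of `u`.
-/
set_option autoImplicit false
set_option maxRecDepth 100000

namespace Cfsg.Agent.D4Cyclic

open Cfsg.Lie Cfsg.Agent.H37 Cfsg.Agent.H37.RootSys Cfsg.Agent.H37.NormalForm
  Cfsg.Agent.H37.Twist Cfsg.Agent.H37.Twist.D4 Cfsg.Agent.H54.Presentation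
  Cfsg.Agent.H87

variable {K : Type*} [Field K] {φ : K →+* K} {q : ℕ}

theorem wEl_xe (t : K) : wEl (xe (K := K) 14) (xe 9) t = nUG (QD K) 14 t := by
  rw [nUG_eq, D4.neg_ok.2.2.2]
  rfl

theorem exists_lev (K : Type*) [Field K] :
    ∃ ψ : Matrix.SpecialLinearGroup (Fin 2) K →* ↥(chevD4.group K),
      (∀ t, ψ (upMat t) = xe 14 t) ∧ ∀ t, ψ (lowMat t) = xe 9 t := by
  have h14 : (14 : ℕ) < chevD4.nroots := by decide
  have h9 : (9 : ℕ) < chevD4.nroots := by decide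
  have R : SL2Rels (xe (K := K) 14) (xe 9) :=
    { x_add := fun t u => ((QD K).sys.x_add' 14 h14 t u).symm
      y_add := fun t u => ((QD K).sys.x_add' 9 h9 t u).symm
      w_conj := fun t u ht => by
        rw [wEl_xe]
        refine Subtype.ext ?_
        show (QD K).K.nU K 14 t * (QD K).K.xU K 14 u * ((QD K).K.nU K 14 t)⁻¹
          = (QD K).K.xU K 9 _
        rw [← D4.neg_ok.2.2.2]
        exact (QD K).K.nU_conj_self K 14 h14 (Units.mk0 t ht) u }
  have hh : ∀ t : K, SL2Rels.hEl (xe (K := K) 14) (xe 9) t = hUG (QD K) 14 t := fun t => by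
    rw [SL2Rels.hEl, wEl_xe, wEl_xe, hUG_eq]
  obtain ⟨ψ, h1, h2, -⟩ := Chevalley.SL2Hom.exists_hom R fun t u => by
    rw [hh, hh, hh]
    exact Subtype.ext ((QD K).K.hU_mul K h14 t u).symm
  exact ⟨ψ, h1, h2⟩

/-- The homomorphism from `SL₂` onto the fundamental long root subgroups. -/
noncomputable def lev (K : Type*) [Field K] :
    Matrix.SpecialLinearGroup (Fin 2) K →* ↥(chevD4.group K) :=
  (exists_lev K).choose

theorem lev_up (t : K) : lev K (upMat t) = xe 14 t := (exists_lev K).choose_spec.1 t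

theorem lev_low (t : K) : lev K (lowMat t) = xe 9 t := (exists_lev K).choose_spec.2 t

theorem lev_hom_ext {G : Type*} [Group G]
    {f g : Matrix.SpecialLinearGroup (Fin 2) K →* G} (hu : ∀ t, f (upMat t) = g (upMat t))
    (hl : ∀ t, f (lowMat t) = g (lowMat t)) : f = g := by
  refine MonoidHom.eq_of_eqOn_top ?_
  rw [← Chevalley.SL2Hom.closure_upMat_lowMat]
  refine MonoidHom.eqOn_closure ?_
  rintro _ (⟨t, rfl⟩ | ⟨t, rfl⟩)
  · exact hu t
  · exact hl t

theorem σ_lev (hφ : ∀ t, φ t = t ^ q) (M : Matrix.SpecialLinearGroup (Fin 2) K) :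
    (endo φ).σ (lev K M) = lev K (Matrix.SpecialLinearGroup.map φ M) := by
  have hu : ∀ t : K, Matrix.SpecialLinearGroup.map φ (upMat t) = upMat (φ t) := fun t => by
    refine sl2_ext ?_
    show (upMat t : Matrix (Fin 2) (Fin 2) K).map φ = _
    rw [upMat_coe, upMat_coe]
    ext i j
    fin_cases i <;> fin_cases j <;> simp
  have hl : ∀ t : K, Matrix.SpecialLinearGroup.map φ (lowMat t) = lowMat (φ t) := fun t => by
    refine sl2_ext ?_
    show (lowMat t : Matrix (Fin 2) (Fin 2) K).map φ = _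
    rw [lowMat_coe, lowMat_coe]
    ext i j
    fin_cases i <;> fin_cases j <;> simp
  refine DFunLike.congr_fun (lev_hom_ext (f := (endo φ).σ.comp (lev K))
    (g := (lev K).comp (Matrix.SpecialLinearGroup.map φ)) (fun t => ?_) fun t => ?_) M
  · rw [MonoidHom.comp_apply, MonoidHom.comp_apply, lev_up, hu, lev_up,
      σ_xe hφ (by decide) (by decide), D4.rh_ok.2.2.2.1, hφ]
  · rw [MonoidHom.comp_apply, MonoidHom.comp_apply, lev_low, hl, lev_low,
      σ_xe hφ (by decide) (by decide), D4.rh_ok.2.2.2.2.2.2.2, hφ]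

/-- Conjugation by `diag(c, 1)`. -/
def dconj (c : Kˣ) :
    Matrix.SpecialLinearGroup (Fin 2) K →* Matrix.SpecialLinearGroup (Fin 2) K where
  toFun M := ⟨!![(M : Matrix (Fin 2) (Fin 2) K) 0 0, (c : K) * (M : Matrix (Fin 2) (Fin 2) K) 0 1;
    ((c⁻¹ : Kˣ) : K) * (M : Matrix (Fin 2) (Fin 2) K) 1 0, (M : Matrix (Fin 2) (Fin 2) K) 1 1], by
      have h := M.2
      rw [Matrix.det_fin_two] at h
      rw [Matrix.det_fin_two_of]
      have hc : (c : K) * ((c⁻¹ : Kˣ) : K) = 1 := c.mul_inv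
      linear_combination h - (M : Matrix (Fin 2) (Fin 2) K) 0 1 *
        (M : Matrix (Fin 2) (Fin 2) K) 1 0 * hc⟩
  map_one' := sl2_ext (by
    rw [Matrix.SpecialLinearGroup.coe_mk, Matrix.SpecialLinearGroup.coe_one]
    simp [Matrix.one_fin_two])
  map_mul' M M' := sl2_ext (by
    have hc : (c : K) ≠ 0 := c.ne_zero
    show !![((M : Matrix (Fin 2) (Fin 2) K) * (M' : Matrix (Fin 2) (Fin 2) K)) 0 0,
        (c : K) * ((M : Matrix (Fin 2) (Fin 2) K) * (M' : Matrix (Fin 2) (Fin 2) K)) 0 1;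
        ((c⁻¹ : Kˣ) : K) * ((M : Matrix (Fin 2) (Fin 2) K) * (M' : Matrix (Fin 2) (Fin 2) K)) 1 0,
        ((M : Matrix (Fin 2) (Fin 2) K) * (M' : Matrix (Fin 2) (Fin 2) K)) 1 1] = !![(M : Matrix (Fin 2) (Fin 2) K) 0 0,
        (c : K) * (M : Matrix (Fin 2) (Fin 2) K) 0 1;
        ((c⁻¹ : Kˣ) : K) * (M : Matrix (Fin 2) (Fin 2) K) 1 0, (M : Matrix (Fin 2) (Fin 2) K) 1 1] *
      !![(M' : Matrix (Fin 2) (Fin 2) K) 0 0, (c : K) * (M' : Matrix (Fin 2) (Fin 2) K) 0 1;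
        ((c⁻¹ : Kˣ) : K) * (M' : Matrix (Fin 2) (Fin 2) K) 1 0, (M' : Matrix (Fin 2) (Fin 2) K) 1 1]
    rw [Matrix.eta_fin_two (M : Matrix (Fin 2) (Fin 2) K),
      Matrix.eta_fin_two (M' : Matrix (Fin 2) (Fin 2) K)]
    simp [Matrix.mul_fin_two]
    field_simp
    simp [mul_comm, mul_left_comm, add_comm])

theorem dconj_coe (c : Kˣ) (M : Matrix.SpecialLinearGroup (Fin 2) K) :
    (dconj c M : Matrix (Fin 2) (Fin 2) K) =
      !![(M : Matrix (Fin 2) (Fin 2) K) 0 0, (c : K) * (M : Matrix (Fin 2) (Fin 2) K) 0 1;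
        ((c⁻¹ : Kˣ) : K) * (M : Matrix (Fin 2) (Fin 2) K) 1 0,
        (M : Matrix (Fin 2) (Fin 2) K) 1 1] := rfl

theorem tG_conj_lev (c : Fin chevD4.rank → Kˣ) (h9 : chT c 9 = (chT c 14)⁻¹)
    (M : Matrix.SpecialLinearGroup (Fin 2) K) :
    tG (QD K) c * lev K M * (tG (QD K) c)⁻¹ = lev K (dconj (chT c 14) M) := by
  refine DFunLike.congr_fun (lev_hom_ext
    (f := (MulAut.conj (tG (QD K) c)).toMonoidHom.comp (lev K))
    (g := (lev K).comp (dconj (chT c 14))) (fun t => ?_) fun t => ?_) M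
  · rw [MonoidHom.comp_apply, MonoidHom.comp_apply, lev_up,
      show dconj (chT c 14) (upMat t) = upMat ((chT c 14 : K) * t) from
        sl2_ext (by rw [dconj_coe, upMat_coe, upMat_coe]; simp), lev_up]
    exact tG_conj (QD K) c (by decide) t
  · rw [MonoidHom.comp_apply, MonoidHom.comp_apply, lev_low,
      show dconj (chT c 14) (lowMat t) = lowMat ((((chT c 14)⁻¹ : Kˣ) : K) * t) from
        sl2_ext (by rw [dconj_coe, lowMat_coe, lowMat_coe]; simp), lev_low,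
      ← h9]
    exact tG_conj (QD K) c (by decide) t

/-- Pairs `(u, g)` with `det g = N(u)` and `g` fixed by the field endomorphism. -/
def Pairs (φ : K →+* K) (q : ℕ) : Subgroup (Kˣ × GL (Fin 2) K) where
  carrier := {p | (p.2 : Matrix (Fin 2) (Fin 2) K).det = ((p.1 ^ nexp q : Kˣ) : K) ∧
    ∀ i j, φ ((p.2 : Matrix (Fin 2) (Fin 2) K) i j) = (p.2 : Matrix (Fin 2) (Fin 2) K) i j}
  one_mem' := ⟨by simp, fun i j => by fin_cases i <;> fin_cases j <;> simp⟩
  mul_mem' := by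
    rintro a b ⟨ha, ha'⟩ ⟨hb, hb'⟩
    refine ⟨?_, fun i j => ?_⟩
    · simp only [Prod.fst_mul, Prod.snd_mul, Units.val_mul, Matrix.det_mul, mul_pow, ha, hb]
    · simp only [Prod.snd_mul, Units.val_mul, Matrix.mul_apply, map_sum, map_mul, ha', hb']
  inv_mem' := by
    rintro a ⟨ha, ha'⟩
    refine ⟨?_, fun i j => ?_⟩
    · rw [Prod.snd_inv, Prod.fst_inv, Matrix.coe_units_inv, Matrix.det_nonsing_inv, ha, inv_pow,
        Units.val_inv_eq_inv_val, Ring.inverse_eq_inv']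
    · rw [Prod.snd_inv]
      have e : Matrix.GeneralLinearGroup.map φ a.2 = a.2 :=
        Units.ext (Matrix.ext fun i j => ha' i j)
      have := congrArg (fun x : GL (Fin 2) K => (x : Matrix (Fin 2) (Fin 2) K) i j)
        ((map_inv (Matrix.GeneralLinearGroup.map φ) a.2).trans (congrArg (·⁻¹) e))
      exact this

/-- `diag(1, N(u)⁻¹) g`. -/
def unimod (p : ↥(Pairs φ q)) : Matrix.SpecialLinearGroup (Fin 2) K :=
  ⟨!![(p.1.2 : Matrix (Fin 2) (Fin 2) K) 0 0, (p.1.2 : Matrix (Fin 2) (Fin 2) K) 0 1;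
    (((p.1.1 ^ nexp q)⁻¹ : Kˣ) : K) * (p.1.2 : Matrix (Fin 2) (Fin 2) K) 1 0,
    (((p.1.1 ^ nexp q)⁻¹ : Kˣ) : K) * (p.1.2 : Matrix (Fin 2) (Fin 2) K) 1 1], by
    have h := p.2.1
    rw [Matrix.det_fin_two] at h
    rw [Matrix.det_fin_two_of]
    have hn : (((p.1.1 ^ nexp q)⁻¹ : Kˣ) : K) * ((p.1.1 ^ nexp q : Kˣ) : K) = 1 :=
      (p.1.1 ^ nexp q).inv_mul
    linear_combination (((p.1.1 ^ nexp q)⁻¹ : Kˣ) : K) * h + hn⟩

theorem unimod_coe (p : ↥(Pairs φ q)) : (unimod p : Matrix (Fin 2) (Fin 2) K) =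
    !![(p.1.2 : Matrix (Fin 2) (Fin 2) K) 0 0, (p.1.2 : Matrix (Fin 2) (Fin 2) K) 0 1;
      (((p.1.1 ^ nexp q)⁻¹ : Kˣ) : K) * (p.1.2 : Matrix (Fin 2) (Fin 2) K) 1 0,
      (((p.1.1 ^ nexp q)⁻¹ : Kˣ) : K) * (p.1.2 : Matrix (Fin 2) (Fin 2) K) 1 1] := rfl

theorem unimod_mul (p p' : ↥(Pairs φ q)) :
    unimod (p * p') = dconj (p'.1.1 ^ nexp q) (unimod p) * unimod p' := by
  refine sl2_ext ?_
  rw [Matrix.SpecialLinearGroup.coe_mul, dconj_coe, unimod_coe, unimod_coe, unimod_coe]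
  set N := p.1.1 ^ nexp q
  set N' := p'.1.1 ^ nexp q
  have e : ((((p * p').1.1 ^ nexp q)⁻¹ : Kˣ) : K) = ((N⁻¹ : Kˣ) : K) * ((N'⁻¹ : Kˣ) : K) := by
    show ((((p.1.1 * p'.1.1) ^ nexp q)⁻¹ : Kˣ) : K) = _
    rw [mul_pow, mul_inv, Units.val_mul]
  rw [e, show (p * p').1.2 = p.1.2 * p'.1.2 from rfl, Units.val_mul, Matrix.eta_fin_two
    (p.1.2 : Matrix (Fin 2) (Fin 2) K), Matrix.eta_fin_two (p'.1.2 : Matrix (Fin 2) (Fin 2) K)]
  have hN : ((N' : Kˣ) : K) ≠ 0 := N'.ne_zero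
  have hN0 : ((N : Kˣ) : K) ≠ 0 := N.ne_zero
  simp [Matrix.mul_fin_two, Units.val_inv_eq_inv_val, -Units.val_pow_eq_pow_val]
  field_simp
  simp [mul_comm, mul_left_comm, mul_assoc, add_comm]

theorem chT_par_one_14 (u : Kˣ) : chT (par q u 1) 14 = (u ^ nexp q)⁻¹ := by
  rw [chT_par_14, one_pow, one_mul]

/-- The Levi homomorphism. -/
noncomputable def levHom (φ : K →+* K) (q : ℕ) : ↥(Pairs φ q) →* ↥(chevD4.group K) where
  toFun p := tG (QD K) (par q p.1.1 1) * lev K (unimod p)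
  map_one' := by
    have h : unimod (1 : ↥(Pairs φ q)) = 1 := sl2_ext (by
      ext i j; fin_cases i <;> fin_cases j <;> simp [unimod])
    rw [h, map_one, mul_one, show par q ((1 : ↥(Pairs φ q)).1.1) 1 = 1 from par_one q, map_one]
  map_mul' p p' := by
    have hc : tG (QD K) (par q p'.1.1 1)⁻¹ * lev K (unimod p) *
        (tG (QD K) (par q p'.1.1 1)⁻¹)⁻¹ = lev K (dconj (p'.1.1 ^ nexp q) (unimod p)) := by
      have e : (par q p'.1.1 1 : Fin chevD4.rank → Kˣ)⁻¹ = par q p'.1.1⁻¹ 1 :=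
        inv_eq_of_mul_eq_one_right (by rw [← par_mul, mul_inv_cancel, mul_one, par_one])
      rw [e, tG_conj_lev _ (chT_par_9 _ _), chT_par_one_14, inv_pow, inv_inv]
    rw [map_inv, inv_inv] at hc
    rw [unimod_mul, map_mul, ← hc, show (p * p').1.1 = p.1.1 * p'.1.1 from rfl,
      show par q (p.1.1 * p'.1.1) 1 = par q p.1.1 1 * par q p'.1.1 1 by
        rw [← par_mul, mul_one], map_mul]
    group

theorem levHom_apply (p : ↥(Pairs φ q)) :
    levHom φ q p = tG (QD K) (par q p.1.1 1) * lev K (unimod p) := rfl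

variable [Fintype K]

theorem levHom_fixed (hφ : ∀ t, φ t = t ^ q) (hK : Fintype.card K = q ^ 3)
    (p : ↥(Pairs φ q)) : (endo φ).σ (levHom φ q p) = levHom φ q p := by
  rw [levHom_apply, map_mul, σ_par hφ hK _ (one_pow q), σ_lev hφ]
  congr 2
  refine sl2_ext ?_
  show (unimod p : Matrix (Fin 2) (Fin 2) K).map φ = _
  rw [unimod_coe]
  have hN : φ ((((p.1.1 ^ nexp q)⁻¹ : Kˣ) : K)) = (((p.1.1 ^ nexp q)⁻¹ : Kˣ) : K) := by
    rw [hφ, ← Units.val_pow_eq_pow_val, inv_pow, norm_fixed hK]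
  generalize (((p.1.1 ^ nexp q)⁻¹ : Kˣ) : K) = a at hN ⊢
  ext i j
  fin_cases i <;> fin_cases j <;> simp [p.2.2, map_mul, hN]

omit [Fintype K] in
theorem lev_wEl : lev K (wEl upMat lowMat (1 : K)) = nUG (QD K) 14 1 := by
  rw [← wEl_xe, wEl, map_mul, map_mul, lev_up, lev_low]
  rfl

omit [Fintype K] in
theorem lev_diag (y : Kˣ) :
    lev K (SL2Rels.hEl upMat lowMat (y : K)) = tG (QD K) (par q 1 y) := by
  rw [SL2Rels.hEl, map_mul]
  have e : ∀ t : K, lev K (wEl upMat lowMat t) = nUG (QD K) 14 t := fun t => by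
    rw [← wEl_xe, wEl, map_mul, map_mul, lev_up, lev_low]; rfl
  rw [e, e, ← hUG_eq,
    show par q (1 : Kˣ) y = Pi.mulSingle (ix 1) y from by
      refine D4.four_ext ?_ ?_ ?_ ?_
      · exact (Pi.mulSingle_eq_of_ne (M := fun _ : Fin 4 => Kˣ)
            (fun h => absurd (congrArg Fin.val h) (by decide)) y).symm
      · exact (Pi.mulSingle_eq_same (M := fun _ : Fin 4 => Kˣ) 1 y).symm
      · exact (one_pow q).trans (Pi.mulSingle_eq_of_ne (M := fun _ : Fin 4 => Kˣ)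
            (fun h => absurd (congrArg Fin.val h) (by decide)) y).symm
      · exact (by rw [one_pow, one_pow] : ((1 : Kˣ) ^ q) ^ q = 1).trans
          (Pi.mulSingle_eq_of_ne (M := fun _ : Fin 4 => Kˣ)
            (fun h => absurd (congrArg Fin.val h) (by decide)) y).symm,
    tG_single]
  rfl

omit [Fintype K] in
theorem nUG_not_mem_B : nUG (QD K) 14 (1 : K) ∉ (QD K).amb.B := by
  intro h
  have e : (QD K).amb.n ((QD K).X.M.simple ⟨1, show 1 < 4 by decide⟩) = nUG (QD K) 14 1 := by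
    show (QD K).sys.rep _ = _
    rw [(QD K).rep_simple]
    rfl
  rw [← e] at h
  exact Sys.simple_ne_one (hC := (QD K).X.good) _ ((QD K).amb.eq_one_of_n_mem_B h)

theorem levHom_injective (hφ : ∀ t, φ t = t ^ q) (hK : Fintype.card K = q ^ 3) :
    Function.Injective (levHom φ q) := by
  rw [injective_iff_map_eq_one]
  rintro ⟨⟨u, g⟩, hd, hg⟩ h
  set M := unimod (φ := φ) (q := q) ⟨(u, g), hd, hg⟩ with hM
  rw [levHom_apply, ← hM] at h
  simp only at h hd hg
  have hH : lev K M ∈ (QD K).amb.H := by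
    rw [eq_inv_of_mul_eq_one_right h]
    exact inv_mem (tG_mem (QD K) _)
  have hx : ∀ t : K, xe 14 t ∈ (QD K).amb.B := fun t =>
    (QD K).amb.U_le_B ((QD K).sys.x_mem_U (by decide) (by decide) t)
  by_cases h10 : (g : Matrix (Fin 2) (Fin 2) K) 1 0 = 0
  · obtain ⟨y, b, e, hy⟩ : ∃ y : Kˣ, ∃ b : K,
        M = SL2Rels.hEl upMat lowMat (y : K) * upMat b ∧
          (y : K) = (g : Matrix (Fin 2) (Fin 2) K) 0 0 := by
      have hdet := hd
      rw [Matrix.det_fin_two, h10, mul_zero, sub_zero] at hdet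
      have h00 : (g : Matrix (Fin 2) (Fin 2) K) 0 0 ≠ 0 := fun h0 => by
        rw [h0, zero_mul] at hdet; exact (u ^ nexp q).ne_zero hdet.symm
      refine ⟨Units.mk0 _ h00, (g : Matrix (Fin 2) (Fin 2) K) 0 1 /
        (g : Matrix (Fin 2) (Fin 2) K) 0 0, ?_, rfl⟩
      refine sl2_ext ?_
      rw [Matrix.SpecialLinearGroup.coe_mul, SL2Rels.hEl, Matrix.SpecialLinearGroup.coe_mul,
        Chevalley.SL2Hom.wEl_sl2 (Units.mk0 _ h00).ne_zero,
        Chevalley.SL2Hom.wEl_sl2 (neg_ne_zero.2 one_ne_zero), upMat_coe]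
      have h11 : (((u ^ nexp q)⁻¹ : Kˣ) : K) * (g : Matrix (Fin 2) (Fin 2) K) 1 1
          = ((g : Matrix (Fin 2) (Fin 2) K) 0 0)⁻¹ := by
        refine eq_inv_of_mul_eq_one_left ?_
        rw [mul_assoc, mul_comm ((g : Matrix (Fin 2) (Fin 2) K) 1 1), hdet, Units.inv_mul]
      rw [hM, unimod_coe]
      simp only
      generalize (((u ^ nexp q)⁻¹ : Kˣ) : K) = a at h11 ⊢
      ext i j
      fin_cases i <;> fin_cases j <;>
        simp [h10, h00, h11, mul_div_cancel₀, -Units.val_inv_eq_inv_val,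
          -Units.val_pow_eq_pow_val]
    rw [e, map_mul, lev_diag (q := q), lev_up] at h
    rw [← mul_assoc, ← map_mul, ← par_mul, mul_one, one_mul] at h
    have hb : xe 14 b = (1 : ↥(chevD4.group K)) := by
      refine (QD K).sys.UH _ ((QD K).sys.x_mem_U (by decide) (by decide) b) ?_
      rw [eq_inv_of_mul_eq_one_right h]
      exact inv_mem (tG_mem (QD K) _)
    rw [hb, mul_one] at h
    have hy' : y ^ q = y := by
      have hyf := hg 0 0
      rw [← hy] at hyf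
      refine Units.ext ?_
      rw [Units.val_pow_eq_pow_val, ← hφ, hyf]
    have h1 := fixed_ker (φ := φ) (par_fixed hK u hy') h
    obtain rfl : u = 1 := congrFun h1 (0 : Fin 4)
    obtain rfl : y = 1 := congrFun h1 (1 : Fin 4)
    have hb0 : b = 0 := xG_inj (QD K) (by decide) (hb.trans (xG_zero (by decide)).symm)
    refine Subtype.ext (Prod.ext rfl ?_)
    refine Units.ext ?_
    have hMb : (M : Matrix (Fin 2) (Fin 2) K) = 1 := by
      rw [e, hb0, upMat_zero, mul_one, SL2Rels.hEl, Matrix.SpecialLinearGroup.coe_mul,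
        Chevalley.SL2Hom.wEl_sl2 (1 : Kˣ).ne_zero,
        Chevalley.SL2Hom.wEl_sl2 (neg_ne_zero.2 one_ne_zero)]
      simp [Matrix.one_fin_two]
    show (g : Matrix (Fin 2) (Fin 2) K) = 1
    rw [← hMb, hM, unimod_coe]
    simp [← Matrix.eta_fin_two]
  · exfalso
    refine nUG_not_mem_B (K := K) ?_
    set c := ((M : Matrix (Fin 2) (Fin 2) K) 1 0) with hc
    have hc0 : c ≠ 0 := by
      rw [hc, hM, unimod_coe]
      simp [h10]
    set y : Kˣ := (Units.mk0 (-c) (neg_ne_zero.2 hc0))⁻¹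
    have e : M = upMat ((M : Matrix (Fin 2) (Fin 2) K) 0 0 / c) *
        SL2Rels.hEl upMat lowMat (y : K) * wEl upMat lowMat (1 : K) *
        upMat ((M : Matrix (Fin 2) (Fin 2) K) 1 1 / c) := by
      refine sl2_ext ?_
      have hdet := M.2
      rw [Matrix.det_fin_two] at hdet
      rw [Matrix.SpecialLinearGroup.coe_mul, Matrix.SpecialLinearGroup.coe_mul,
        Matrix.SpecialLinearGroup.coe_mul, SL2Rels.hEl, Matrix.SpecialLinearGroup.coe_mul,
        Chevalley.SL2Hom.wEl_sl2 y.ne_zero,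
        Chevalley.SL2Hom.wEl_sl2 (neg_ne_zero.2 one_ne_zero),
        Chevalley.SL2Hom.wEl_sl2 one_ne_zero, upMat_coe, upMat_coe]
      ext i j
      fin_cases i <;> fin_cases j <;> simp [y, Units.val_inv_eq_inv_val, ← hc] <;> field_simp
      rw [← hc] at hdet
      first | linear_combination hdet | linear_combination -hdet
    rw [e, map_mul, map_mul, map_mul, lev_up, lev_up, lev_diag (q := q), lev_wEl] at hH
    have h1 := mul_mem (mul_mem (inv_mem (mul_mem (hx ((M : Matrix (Fin 2) (Fin 2) K) 0 0 / c))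
      ((QD K).amb.H_le_B (tG_mem (QD K) (par q 1 y))))) ((QD K).amb.H_le_B hH))
      (inv_mem (hx ((M : Matrix (Fin 2) (Fin 2) K) 1 1 / c)))
    convert h1 using 1
    group

end Cfsg.Agent.D4Cyclic
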