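import Cfsg.Agent.D4Cyclic.Levi
import Cfsg.Agent.D4Cyclic.Cyclic

/-!
`³D₄(q)`, `q ≥ 3`: the cyclic self-centralising subgroup of order `(q³ - 1)(q + 1)`.
-/
set_option autoImplicit false
set_option maxRecDepth 100000

namespace Cfsg.Agent.D4Cyclic

open Cfsg.Lie Cfsg.Agent.H37 Cfsg.Agent.H37.RootSys Cfsg.Agent.H37.NormalForm
  Cfsg.Agent.H37.Twist Cfsg.Agent.H37.Twist.D4 Cfsg.Agent.H54.Presentation
  Cfsg.Agent.H87

/-- The coefficient triples of the roots not orthogonal to the torus. -/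
def triples : List (ℤ × ℤ × ℤ) :=
  [(3, -1, -1), (-1, 3, -1), (-1, -1, 3), (2, 2, -2), (2, -2, 2), (-2, 2, 2), (1, 1, 1)]

theorem coef_mem : ∀ r < 24, r = 14 ∨ r = 9 ∨ coef r ∈ triples ∨
    (-(coef r).1, -(coef r).2.1, -(coef r).2.2) ∈ triples := by decide +kernel

theorem ev_bound {q : ℕ} (hq : 3 ≤ q) : ∀ e ∈ triples,
    ev q e ≠ 0 ∧ |ev q e| < (q : ℤ) ^ 3 - 1 := by
  intro e he
  have h3 : (3 : ℤ) ≤ q := by exact_mod_cast hq
  have h9 : (3 : ℤ) * q ≤ (q : ℤ) * q := mul_le_mul_of_nonneg_right h3 (by omega)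
  have hc : 3 * ((q : ℤ) * q) ≤ (q : ℤ) ^ 3 := by
    rw [show (q : ℤ) ^ 3 = (q : ℤ) * ((q : ℤ) * q) by ring]
    exact mul_le_mul_of_nonneg_right h3 (by positivity)
  have h1 : (q : ℤ) * q ≠ 3 * (q : ℤ) - 1 := fun h => by
    have h' : ((q : ℤ) - 3) * q = -1 := by linear_combination h
    nlinarith
  simp only [triples, List.mem_cons, List.not_mem_nil, or_false] at he
  rcases he with rfl | rfl | rfl | rfl | rfl | rfl | rfl <;>
    simp only [ev, abs_lt] <;> refine ⟨by omega, by omega, by omega⟩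

theorem ex_not_dvd {q : ℕ} (hq : 3 ≤ q) {r : ℕ} (hr : r < 24) (h14 : r ≠ 14) (h9 : r ≠ 9) :
    ¬ ((q : ℤ) ^ 3 - 1) ∣ ex q r := by
  intro h
  rcases coef_mem r hr with h' | h' | h' | h'
  · exact h14 h'
  · exact h9 h'
  · obtain ⟨h1, h2⟩ := ev_bound hq _ h'
    exact h1 (Int.eq_zero_of_abs_lt_dvd h h2)
  · obtain ⟨h1, h2⟩ := ev_bound hq _ h'
    have e : ev q (-(coef r).1, -(coef r).2.1, -(coef r).2.2) = -ex q r := by
      simp only [ev, ex]; ring
    exact h1 (Int.eq_zero_of_abs_lt_dvd (e ▸ h.neg_right) h2)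

theorem word_dichotomy : ∀ v ∈ words, v = [] ∨ v = [1] ∨
    (Weyl.certD4.act v 14 ≠ 14 ∧ Weyl.certD4.act v 14 ≠ 9) ∨
    coef (Weyl.certD4.act v 18) = (-3, 1, 1) := by decide +kernel

theorem act_lt : ∀ v ∈ words, ∀ r < 24, Weyl.certD4.act v r < 24 := by decide +kernel

theorem ex_14 (q : ℕ) : ex q 14 = 0 := by
  rw [ex, show coef 14 = (0, 0, 0) by decide +kernel]; simp [ev]

theorem ex_18 (q : ℕ) : ex q 18 = 3 - q - (q : ℤ) * q := by
  rw [ex, show coef 18 = (3, -1, -1) by decide +kernel]; simp [ev]; ring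

variable {K : Type*} [Field K] {φ : K →+* K} {q : ℕ}

/-- A pair from a matrix of determinant one. -/
def slPair (φ : K →+* K) (q : ℕ) (M : Matrix.SpecialLinearGroup (Fin 2) K)
    (hM : ∀ i j, φ ((M : Matrix (Fin 2) (Fin 2) K) i j) = (M : Matrix (Fin 2) (Fin 2) K) i j) :
    ↥(Pairs φ q) :=
  ⟨(1, Matrix.SpecialLinearGroup.toGL M), by simp [M.2], hM⟩

theorem lev_mem_range (M : Matrix.SpecialLinearGroup (Fin 2) K)
    (hM : ∀ i j, φ ((M : Matrix (Fin 2) (Fin 2) K) i j) = (M : Matrix (Fin 2) (Fin 2) K) i j) :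
    lev K M ∈ (levHom φ q).range := by
  refine ⟨slPair φ q M hM, ?_⟩
  have e : unimod (slPair φ q M hM) = M := sl2_ext (by
    rw [unimod_coe]
    simp [slPair, ← Matrix.eta_fin_two])
  rw [levHom_apply, e, show par q (slPair φ q M hM).1.1 1 = 1 from par_one q, map_one, one_mul]

/-- A pair from a diagonal matrix. -/
def diagPair (φ : K →+* K) (q : ℕ) (u a b : Kˣ) (h : a * b = u ^ nexp q) (ha : φ a = a)
    (hb : φ b = b) : ↥(Pairs φ q) :=
  ⟨(u, ⟨!![(a : K), 0; 0, (b : K)], !![((a⁻¹ : Kˣ) : K), 0; 0, ((b⁻¹ : Kˣ) : K)],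
      by simp [Matrix.mul_fin_two, Matrix.one_fin_two],
      by simp [Matrix.mul_fin_two, Matrix.one_fin_two]⟩), by
    show (!![(a : K), 0; 0, (b : K)]).det = _
    rw [Matrix.det_fin_two_of, ← h]
    simp, fun i j => by fin_cases i <;> fin_cases j <;> simp [ha, hb]⟩

theorem levHom_diagPair (u a b : Kˣ) (h : a * b = u ^ nexp q) (ha : φ a = a) (hb : φ b = b) :
    levHom φ q (diagPair φ q u a b h ha hb) = tG (QD K) (par q u a) := by
  have e : unimod (diagPair φ q u a b h ha hb)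
      = SL2Rels.hEl upMat lowMat (a : K) := sl2_ext (by
    rw [unimod_coe, SL2Rels.hEl, Matrix.SpecialLinearGroup.coe_mul,
      Chevalley.SL2Hom.wEl_sl2 a.ne_zero,
      Chevalley.SL2Hom.wEl_sl2 (neg_ne_zero.2 one_ne_zero)]
    show !![(a : K), 0; (((u ^ nexp q)⁻¹ : Kˣ) : K) * 0, (((u ^ nexp q)⁻¹ : Kˣ) : K) * (b : K)] = _
    rw [← h, mul_inv, ← Units.val_mul, inv_mul_cancel_right]
    simp)
  rw [levHom_apply, e, lev_diag (q := q), ← map_mul, ← par_mul, mul_one, one_mul]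
  rfl

variable [Fintype K]

theorem xe_mem_range (hφ : ∀ t, φ t = t ^ q) {t : ℕ → K}
    (hfix : (endo φ).σ (xprod (QD K) posL t) = xprod (QD K) posL t)
    (hz : ∀ r ∈ posL, r ≠ 14 → t r = 0) : xprod (QD K) posL t ∈ (levHom φ q).range := by
  rw [xprod_sublist (by decide +kernel) t (fun r => r == 14) (fun r hr h => hz r hr (by simpa using h)),
    show posL.filter (fun r => r == 14) = [14] by decide +kernel] at hfix ⊢
  simp only [xprod, List.map_cons, List.map_nil, List.prod_cons, List.prod_nil, mul_one] at hfix ⊢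
  rw [σ_xe hφ (by decide) (by decide), D4.rh_ok.2.2.2.1] at hfix
  have h := xG_inj (QD K) (by decide +kernel) hfix
  show xe 14 (t 14) ∈ _
  rw [← lev_up]
  refine lev_mem_range _ fun i j => ?_
  fin_cases i <;> fin_cases j <;> simp [upMat_coe, hφ (t 14), h]

theorem H_mem_range (hφ : ∀ t, φ t = t ^ q) (hK : Fintype.card K = q ^ 3) {h : ↥(chevD4.group K)}
    (hh : h ∈ (QD K).sys.H) (hfix : (endo φ).σ h = h) : h ∈ (levHom φ q).range := by
  obtain ⟨u, y, hy, rfl⟩ := exists_par hφ hK hh hfix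
  have hy' : φ y = y := by rw [hφ, ← Units.val_pow_eq_pow_val, hy]
  refine ⟨diagPair φ q u y (y⁻¹ * u ^ nexp q) (mul_inv_cancel_left _ _) hy' ?_,
    levHom_diagPair ..⟩
  rw [hφ, ← Units.val_pow_eq_pow_val, mul_pow, inv_pow, hy, norm_fixed hK]

omit [Fintype K] in
theorem nword_one : nword K [1] = lev K (wEl upMat lowMat (1 : K)) := by
  rw [lev_wEl]
  simp only [nword, List.map_cons, List.map_nil, List.prod_cons, List.prod_nil, mul_one]
  rfl

/-- An element commuting with the image of a torus element comes from the Levi subgroup. -/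
theorem mem_range_of_commute (hφ : ∀ t, φ t = t ^ q) (hK : Fintype.card K = q ^ 3) (hq : 3 ≤ q)
    {g : ↥(chevD4.group K)} (hg : (endo φ).σ g = g)
    (hc : ∀ w : Kˣ, g * tG (QD K) (zc q w) = tG (QD K) (zc q w) * g) :
    g ∈ (levHom φ q).range := by
  obtain ⟨t, s, h, hh, v, hv, rfl, ht, hs, hn, -, hzero, hw⟩ := cent_form hφ hK hg hc
  obtain ⟨η, hη⟩ := IsCyclic.exists_generator (α := Kˣ)
  have oη : (orderOf η : ℤ) = (q : ℤ) ^ 3 - 1 := by
    rw [orderOf_eq_card_of_forall_mem_zpowers hη, Nat.card_units, Nat.card_eq_fintype_card, hK,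
      Nat.cast_sub (Nat.one_le_pow _ _ (by omega)), Nat.cast_pow, Nat.cast_one]
  have hne : ∀ r ∈ posL, r ≠ 14 → t r = 0 ∧ s r = 0 := by
    intro r hr h14
    refine hzero r hr ⟨η, fun e => ex_not_dvd hq ?_ h14 ?_ ?_⟩
    · exact (show ∀ r ∈ posL, r < 24 by decide +kernel) r hr
    · exact (show ∀ r ∈ posL, r ≠ 9 by decide +kernel) r hr
    · rw [← oη]; exact orderOf_dvd_iff_zpow_eq_one.2 e
  refine mul_mem ?_ (xe_mem_range hφ hs fun r hr h14 => (hne r hr h14).2)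
  rw [mul_assoc]
  refine mul_mem (xe_mem_range hφ ht fun r hr h14 => (hne r hr h14).1) ?_
  rcases word_dichotomy v hv with rfl | rfl | h14 | h18
  · simp only [nword, List.map_nil, List.prod_nil, mul_one] at hn ⊢
    exact H_mem_range hφ hK hh hn
  · have hf : ∀ i j, φ ((wEl upMat lowMat (1 : K) :
        Matrix.SpecialLinearGroup (Fin 2) K) i j) = (wEl upMat lowMat (1 : K) :
        Matrix.SpecialLinearGroup (Fin 2) K) i j := by
      intro i j
      rw [Chevalley.SL2Hom.wEl_sl2 one_ne_zero]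
      fin_cases i <;> fin_cases j <;> simp
    refine mul_mem (H_mem_range hφ hK hh ?_) ?_
    · have e : (endo φ).σ (nword K [1]) = nword K [1] := by
        rw [nword_one, σ_lev hφ]
        congr 1
        exact sl2_ext (Matrix.ext hf)
      rw [map_mul, e] at hn
      exact mul_right_cancel hn
    · rw [nword_one]; exact lev_mem_range _ hf
  · exfalso
    refine ex_not_dvd hq (act_lt v hv 14 (by decide)) h14.1 h14.2 ?_
    rw [← oη]
    exact orderOf_dvd_iff_zpow_eq_one.2 ((hw 14 (by decide) η).trans (by rw [ex_14, zpow_zero]))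
  · exfalso
    have e := hw 18 (by decide) η
    rw [ex, h18, ex_18, zpow_eq_zpow_iff_modEq, Int.modEq_iff_dvd, oη] at e
    have h3 : (3 : ℤ) ≤ q := by exact_mod_cast hq
    have h9 : (3 : ℤ) * q ≤ (q : ℤ) * q := mul_le_mul_of_nonneg_right h3 (by omega)
    have hc' : 3 * ((q : ℤ) * q) ≤ (q : ℤ) ^ 3 := by
      rw [show (q : ℤ) ^ 3 = (q : ℤ) * ((q : ℤ) * q) by ring]
      exact mul_le_mul_of_nonneg_right h3 (by positivity)
    simp only [ev] at e
    have := Int.eq_zero_of_abs_lt_dvd e (by rw [abs_lt]; constructor <;> omega)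
    omega

/-- For `q ≥ 3`: a fixed element of order `(q³ - 1)(q + 1)` whose fixed centraliser is cyclic. -/
theorem exists_tau_ge_three (hφ : ∀ t, φ t = t ^ q) (hK : Fintype.card K = q ^ 3) (hq : 3 ≤ q) :
    ∃ τ : ↥(chevD4.group K), (endo φ).σ τ = τ ∧ orderOf τ = (q ^ 3 - 1) * (q + 1) ∧
      ∀ g, (endo φ).σ g = g → g * τ = τ * g → g ∈ Subgroup.zpowers τ := by
  obtain ⟨γ, η, hγ, oγ, oη, hdet, oN, hcent⟩ := exists_torus hφ hK (by omega : 2 ≤ q)
  let τ0 : ↥(Pairs φ q) := ⟨(η, γ), hdet, hγ⟩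
  have hinj := levHom_injective (φ := φ) (q := q) hφ hK
  have hgcd : Nat.gcd (q ^ 3 - 1) (q ^ 2 - 1) = q - 1 := by
    rw [Nat.pow_sub_one_gcd_pow_sub_one, show Nat.gcd 3 2 = 1 by rfl, pow_one]
  have hsq : q ^ 2 - 1 = (q + 1) * (q - 1) := by simpa using Nat.sq_sub_sq q 1
  have oτ : orderOf τ0 = (q ^ 3 - 1) * (q + 1) := by
    rw [← Subgroup.orderOf_coe, Prod.orderOf, show orderOf τ0.1.1 = q ^ 3 - 1 from oη,
      show orderOf τ0.1.2 = q ^ 2 - 1 from oγ, Nat.lcm, hgcd, hsq, ← mul_assoc,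
      Nat.mul_div_cancel _ (by omega)]
  -- every pair commuting with `τ0` is a power of it
  have hpow : ∀ p : ↥(Pairs φ q), p.1.2 * γ = γ * p.1.2 → ∃ n : ℕ, p = τ0 ^ n := by
    intro p hp
    obtain ⟨j, hj⟩ := hcent p.1.2 p.2.2 hp
    obtain ⟨i, hi⟩ : ∃ i : ℕ, p.1.1 = η ^ i := by
      have hfull : ∀ x : Kˣ, x ∈ Subgroup.zpowers η := by
        intro x
        have : Subgroup.zpowers η = ⊤ := Subgroup.eq_top_of_card_eq _ (by
          rw [Nat.card_zpowers, oη, Nat.card_units, Nat.card_eq_fintype_card, hK])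
        rw [this]; trivial
      obtain ⟨i, hi⟩ := (mem_powers_iff_mem_zpowers (x := η) (y := p.1.1)).2 (hfull _)
      exact ⟨i, hi.symm⟩
    have h := p.2.1
    rw [hj, hi, Units.val_pow_eq_pow_val, Matrix.det_pow, hdet] at h
    have h' : (η ^ nexp q) ^ j = (η ^ nexp q) ^ i := by
      rw [← pow_mul η (nexp q) i, mul_comm, pow_mul]
      exact Units.ext (by simpa [nexp] using h)
    rw [pow_eq_pow_iff_modEq, show orderOf (η ^ nexp q) = q - 1 from oN] at h'
    obtain ⟨n, hn1, hn2⟩ := Nat.chineseRemainder' (n := q ^ 3 - 1) (m := q ^ 2 - 1) (a := i)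
      (b := j) (by rw [hgcd]; exact h'.symm)
    refine ⟨n, Subtype.ext (Prod.ext ?_ ?_)⟩
    · show p.1.1 = η ^ n
      rw [hi, pow_eq_pow_iff_modEq, oη]
      exact hn1.symm
    · show p.1.2 = γ ^ n
      rw [hj, pow_eq_pow_iff_modEq, oγ]
      exact hn2.symm
  refine ⟨levHom φ q τ0, levHom_fixed hφ hK τ0, by rw [orderOf_injective _ hinj, oτ],
    fun g hg hc => ?_⟩
  have hz : ∀ w : Kˣ, g * tG (QD K) (zc q w) = tG (QD K) (zc q w) * g := by
    intro w
    have hwf : φ ((w ^ nexp q : Kˣ) : K) = ((w ^ nexp q : Kˣ) : K) := by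
      rw [hφ, ← Units.val_pow_eq_pow_val, norm_fixed hK]
    set d := diagPair φ q (w ^ 2) (w ^ nexp q) (w ^ nexp q)
      (by rw [← pow_two, ← pow_mul, ← pow_mul, mul_comm]) hwf hwf with hd
    obtain ⟨n, hn⟩ := hpow d (by
      refine Units.ext ?_
      show !![_, 0; 0, _] * (γ : Matrix (Fin 2) (Fin 2) K)
        = (γ : Matrix (Fin 2) (Fin 2) K) * !![_, 0; 0, _]
      rw [Matrix.eta_fin_two (γ : Matrix (Fin 2) (Fin 2) K)]
      simp [Matrix.mul_fin_two, mul_comm])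
    have e : levHom φ q d = tG (QD K) (zc q w) := levHom_diagPair ..
    rw [← e, hn, map_pow]
    exact (Commute.pow_right hc n).eq
  obtain ⟨p, rfl⟩ := mem_range_of_commute hφ hK hq hg hz
  rw [← map_mul, ← map_mul] at hc
  obtain ⟨n, rfl⟩ := hpow p (congrArg (fun x : ↥(Pairs φ q) => x.1.2) (hinj hc))
  rw [map_pow]
  exact Subgroup.npow_mem_zpowers _ _

end Cfsg.Agent.D4Cyclic
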