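import Cfsg.Agent.D4Cyclic.Main
import Cfsg.Agent.H37.Twist.D4Perfect

/-!
`³D₄(2)`: the cyclic self-centralising subgroup of order `21`. The centraliser of the torus acts
on the subgroup of the three roots `6`, `18`, `19` over the prime field; the action is computed
on bit vectors.
-/
set_option autoImplicit false
set_option maxRecDepth 100000

namespace Cfsg.Agent.D4Cyclic

open Cfsg.Lie Cfsg.Agent.H37 Cfsg.Agent.H37.RootSys Cfsg.Agent.H37.NormalForm
  Cfsg.Agent.H37.Twist Cfsg.Agent.H37.Twist.D4 Cfsg.Agent.H54.Presentation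
  Cfsg.Agent.H87

/-- The roots orthogonal to the torus. -/
def zroots : List ℕ := [0, 1, 9, 14, 22, 23]

/-- The bit of a root of the module. -/
def bitOf (k : ℕ) : ℕ := if k = 6 then 1 else if k = 18 then 2 else if k = 19 then 4 else 0

/-- The image of the basis vector of a root. -/
def imgBits (r s : ℕ) : ℕ :=
  ((chevD4.commTerms r s).map fun c => bitOf c.1).foldl Nat.xor (bitOf s)

/-- The action of a root element of parameter `1`. -/
def step (r v : ℕ) : ℕ :=
  ((if v.testBit 0 then imgBits r 6 else 0) ^^^ (if v.testBit 1 then imgBits r 18 else 0)) ^^^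
    (if v.testBit 2 then imgBits r 19 else 0)

/-- The action of a word. -/
def run (L : List ℕ) (v : ℕ) : ℕ := L.foldr step v

theorem comm_table : ∀ r ∈ zroots, ∀ s ∈ [6, 18, 19],
    r < 24 ∧ s < 24 ∧ s ≠ r ∧ s ≠ chevD4.neg r ∧
    (chevD4.commTerms r s = [] ∨ ∃ k ∈ [6, 18, 19],
      chevD4.commTerms r s = [(k, 1, 1, 1)] ∨ chevD4.commTerms r s = [(k, -1, 1, 1)]) := by
  decide +kernel

theorem step_lt : ∀ r ∈ zroots, ∀ v < 8, step r v < 8 := by decide +kernel

theorem img_lt : ∀ r ∈ zroots, ∀ s ∈ [6, 18, 19], imgBits r s < 8 := by decide +kernel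

theorem modComm : commB chevD4 [6, 18, 19] = true := by decide +kernel

theorem fixRoots : ∀ r ∈ zroots, r < 24 ∧ tables.rh r = r ∧ ex 2 r % 7 = 0 := by decide +kernel

theorem posZero : ∀ r ∈ posL, r ∉ [14, 22, 23] → ex 2 r % 7 ≠ 0 := by decide +kernel

/-- The six words of the Weyl group of the centraliser, with their expressions. -/
def zwords : List (List ℕ × List ℕ) :=
  [([], []), ([1], [14, 9, 14]), ([0, 2, 3, 1, 0, 2, 3], [22, 1, 22]),
    ([1, 0, 2, 3, 1, 0, 2, 3], [14, 9, 14, 22, 1, 22]),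
    ([0, 2, 3, 1, 0, 2, 3, 1], [22, 1, 22, 14, 9, 14]),
    ([1, 0, 2, 3, 1, 0, 2, 3, 1], [14, 9, 14, 22, 1, 22, 14, 9, 14])]

theorem zwords_complete : ∀ v ∈ words,
    (∀ r < 24, (ex 2 (Weyl.certD4.act v r) - ex 2 r) % 7 = 0) → ∃ p ∈ zwords, p.1 = v := by
  decide +kernel

theorem zwords_gen : ∀ p ∈ zwords, ∀ r ∈ p.2, r ∈ zroots := by decide +kernel

theorem zwords_flip : ∀ p ∈ zwords, ∀ a ∈ p.1, a < 4 := by decide +kernel

/-- The word of a triple of bits over the positive roots orthogonal to the torus. -/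
def bitWord (b : Bool × Bool × Bool) : List ℕ :=
  (if b.1 then [14] else []) ++ (if b.2.1 then [22] else []) ++ (if b.2.2 then [23] else [])

theorem bitWord_gen : ∀ b, ∀ r ∈ bitWord b, r ∈ zroots := by decide +kernel

/-- The right factor is supported on the inverted roots. -/
def supported (v : List ℕ) (b : Bool × Bool × Bool) : Bool :=
  (!b.1 || (flipList Weyl.certD4 chevD4 v).contains 14) &&
  (!b.2.1 || (flipList Weyl.certD4 chevD4 v).contains 22) &&
  (!b.2.2 || (flipList Weyl.certD4 chevD4 v).contains 23)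

theorem classify : ∀ p ∈ zwords, ∀ a b : Bool × Bool × Bool, supported p.1 b = true →
    (∀ e < 8, run (bitWord a ++ p.2 ++ bitWord b ++ [14, 9]) e
      = run ([14, 9] ++ (bitWord a ++ p.2 ++ bitWord b)) e) →
    bitWord a ++ p.2 ++ bitWord b ∈ [[], [14, 9, 14, 14], [14, 14, 9, 14]] := by
  decide +kernel

theorem run_X : run [14, 9] 2 ≠ 2 ∨ run [14, 9] 4 ≠ 4 := by decide +kernel

theorem flip_in : ∀ p ∈ zwords,
    posL.filter (fun r => (flipList Weyl.certD4 chevD4 p.1).contains r)
      = flipList Weyl.certD4 chevD4 p.1 := by decide +kernel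

variable {K : Type*} [Field K] {φ : K →+* K} {q : ℕ}

/-- The product of root elements of parameter `1`. -/
noncomputable def word (K : Type*) [Field K] (L : List ℕ) : ↥(chevD4.group K) :=
  (L.map fun r => xe r (1 : K)).prod

/-- The module of the three roots. -/
noncomputable def vec (K : Type*) [Field K] (v : ℕ) : ↥(chevD4.group K) :=
  xe 6 (1 : K) ^ (v.testBit 0).toNat * xe 18 (1 : K) ^ (v.testBit 1).toNat *
    xe 19 (1 : K) ^ (v.testBit 2).toNat

theorem word_append (A B : List ℕ) : word K (A ++ B) = word K A * word K B := by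
  simp [word]

theorem word_cons (r : ℕ) (L : List ℕ) : word K (r :: L) = xe r (1 : K) * word K L := by
  simp [word]

theorem par_pow (u : Kˣ) (n : ℕ) : par q u 1 ^ n = par q (u ^ n) 1 := by
  induction n with
  | zero => rw [pow_zero, pow_zero, par_one]
  | succ n ih => rw [pow_succ, ih, ← par_mul, mul_one, ← pow_succ]

section Two

variable (hφ : ∀ t, φ t = t ^ q) (hq : q = 2)
include hφ hq

theorem two_eq : (1 : K) + 1 = 0 := by
  have h := neg_one_eq hφ hq
  nth_rewrite 1 [← h]
  exact neg_add_cancel 1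

theorem xe_sq {r : ℕ} (hr : r < 24) : xe r (1 : K) * xe r 1 = 1 := by
  show (QD K).sys.x r 1 * (QD K).sys.x r 1 = 1
  rw [← (QD K).sys.x_add' r hr, two_eq hφ hq]
  exact (QD K).sys.x_zero' hr

theorem xe_inv {r : ℕ} (hr : r < 24) : (xe r (1 : K))⁻¹ = xe r 1 :=
  inv_eq_of_mul_eq_one_right (xe_sq hφ hq hr)

theorem vec_add {a b : ℕ} (ha : a < 8) (hb : b < 8) : vec K a * vec K b = vec K (a ^^^ b) := by
  set A := xe 6 (1 : K)
  set B := xe 18 (1 : K)
  set C := xe 19 (1 : K)
  have cAB : Commute A B := commute_xG (QD K) modComm (by simp) (by simp) _ _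
  have cAC : Commute A C := commute_xG (QD K) modComm (by simp) (by simp) _ _
  have cBC : Commute B C := commute_xG (QD K) modComm (by simp) (by simp) _ _
  have red : ∀ {x : ↥(chevD4.group K)}, x * x = 1 → ∀ n : ℕ, x ^ n = x ^ (n % 2) := by
    intro x hx n
    exact pow_eq_pow_mod n (by rw [pow_two, hx])
  have hbits : ∀ a < 8, ∀ b < 8, ∀ i < 3,
      ((a : ℕ).testBit i).toNat % 2 = (a.testBit i).toNat ∧
      ((a.testBit i).toNat + (b.testBit i).toNat) % 2 = ((a ^^^ b).testBit i).toNat := by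
    decide +kernel
  have step1 : ∀ i j k i' j' k' : ℕ, A ^ i * B ^ j * C ^ k * (A ^ i' * B ^ j' * C ^ k')
      = A ^ (i + i') * B ^ (j + j') * C ^ (k + k') := by
    intro i j k i' j' k'
    rw [pow_add, pow_add, pow_add]
    calc A ^ i * B ^ j * C ^ k * (A ^ i' * B ^ j' * C ^ k')
        = A ^ i * B ^ j * (C ^ k * A ^ i') * B ^ j' * C ^ k' := by group
      _ = A ^ i * (B ^ j * A ^ i') * (C ^ k * B ^ j') * C ^ k' := by
          rw [(cAC.symm.pow_pow k i').eq]; group
      _ = _ := by rw [(cAB.symm.pow_pow j i').eq, (cBC.symm.pow_pow k j').eq]; group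
  show A ^ _ * B ^ _ * C ^ _ * (A ^ _ * B ^ _ * C ^ _) = A ^ _ * B ^ _ * C ^ _
  rw [step1, red (xe_sq hφ hq (by decide)), red (x := B) (xe_sq hφ hq (by decide)),
    red (x := C) (xe_sq hφ hq (by decide)), (hbits a ha b hb 0 (by decide)).2,
    (hbits a ha b hb 1 (by decide)).2, (hbits a ha b hb 2 (by decide)).2]

omit hφ hq in
theorem vec_bit : vec K 1 = xe 6 (1 : K) ∧ vec K 2 = xe 18 (1 : K) ∧ vec K 4 = xe 19 (1 : K) ∧
    vec K 0 = 1 := by
  refine ⟨?_, ?_, ?_, ?_⟩ <;>
    simp [vec, show Nat.testBit 1 0 = true by decide, show Nat.testBit 1 1 = false by decide,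
      show Nat.testBit 1 2 = false by decide, show Nat.testBit 2 0 = false by decide,
      show Nat.testBit 2 1 = true by decide, show Nat.testBit 2 2 = false by decide,
      show Nat.testBit 4 0 = false by decide, show Nat.testBit 4 1 = false by decide,
      show Nat.testBit 4 2 = true by decide]

omit hφ hq in
theorem xe_bit {s : ℕ} (hs : s ∈ [6, 18, 19]) : xe s (1 : K) = vec K (bitOf s) := by
  simp only [List.mem_cons, List.not_mem_nil, or_false] at hs
  obtain ⟨h1, h2, h4, -⟩ := vec_bit (K := K)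
  rcases hs with rfl | rfl | rfl
  · exact h1.symm
  · exact h2.symm
  · exact h4.symm

theorem conj_gen {r s : ℕ} (hr : r ∈ zroots) (hs : s ∈ [6, 18, 19]) :
    xe r (1 : K) * xe s 1 * (xe r 1)⁻¹ = vec K (imgBits r s) := by
  obtain ⟨hr', hs', h1, h2, ht⟩ := comm_table r hr s hs
  have hlt : ∀ k ∈ [6, 18, 19], bitOf k < 8 := by decide
  have e : xe r (1 : K) * xe s 1 * (xe r 1)⁻¹
      = xe s 1 * ((chevD4.commTerms r s).map fun c =>
        xe c.1 ((c.2.1 : K) * (-1) ^ c.2.2.1 * 1 ^ c.2.2.2)).prod := by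
    rw [xe_inv hφ hq hr']
    nth_rewrite 1 [← xe_inv hφ hq hr']
    refine Subtype.ext ?_
    simp only [Subgroup.coe_mul, Subgroup.coe_inv, Subgroup.val_list_prod, List.map_map]
    show ((QD K).K.xU K r 1)⁻¹ * (QD K).K.xU K s 1 * (QD K).K.xU K r 1 = _
    rw [(QD K).K.xU_conj K hr' hs' h1 h2]
    simp only [ChevalleyDatum.commWord, Chevalley.Cert.wU, List.map_map]
    rfl
  rw [e]
  rcases ht with h | ⟨k, hk, h | h⟩
  · simp [h, imgBits, xe_bit hs]
  all_goals
    rw [h, imgBits, h]
    simp only [List.map_cons, List.map_nil, List.prod_cons, List.prod_nil, mul_one,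
      List.foldl_cons, List.foldl_nil, pow_one, one_pow, neg_one_eq hφ hq, Int.cast_one,
      Int.cast_neg]
    rw [xe_bit hs, xe_bit hk, vec_add hφ hq (hlt s hs) (hlt k hk)]
    rfl

theorem conj_step {r : ℕ} (hr : r ∈ zroots) {v : ℕ} (hv : v < 8) :
    xe r (1 : K) * vec K v * (xe r 1)⁻¹ = vec K (step r v) := by
  obtain ⟨-, -, -, h0⟩ := vec_bit (K := K)
  have key : ∀ (b : Bool) (s : ℕ), s ∈ [6, 18, 19] →
      xe r (1 : K) * xe s 1 ^ b.toNat * (xe r 1)⁻¹ = vec K (if b then imgBits r s else 0) := by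
    rintro (_ | _) s hs
    · simp [h0]
    · simpa using conj_gen hφ hq hr hs
  have hb : ∀ (b : Bool) (s : ℕ), s ∈ [6, 18, 19] → (if b then imgBits r s else 0) < 8 := by
    rintro (_ | _) s hs
    · simp
    · simpa using img_lt r hr s hs
  rw [vec, show ∀ a b c x : ↥(chevD4.group K), x * (a * b * c) * x⁻¹
    = (x * a * x⁻¹) * (x * b * x⁻¹) * (x * c * x⁻¹) from fun a b c x => by group,
    key _ 6 (by simp), key _ 18 (by simp), key _ 19 (by simp),
    vec_add hφ hq (hb _ 6 (by simp)) (hb _ 18 (by simp)),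
    vec_add hφ hq ?_ (hb _ 19 (by simp))]
  · rfl
  · exact Nat.xor_lt_two_pow (n := 3) (hb _ 6 (by simp)) (hb _ 18 (by simp))

theorem conj_word : ∀ {L : List ℕ}, (∀ r ∈ L, r ∈ zroots) → ∀ {v : ℕ}, v < 8 →
    run L v < 8 ∧ word K L * vec K v * (word K L)⁻¹ = vec K (run L v)
  | [], _, v, hv => ⟨hv, by simp [word, run]⟩
  | r :: L, h, v, hv => by
      obtain ⟨h1, h2⟩ := conj_word (L := L) (fun s hs => h s (List.mem_cons_of_mem r hs)) hv
      have hr : r ∈ zroots := h r (by simp)
      refine ⟨step_lt r hr _ h1, ?_⟩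
      rw [word_cons, show xe r (1 : K) * word K L * vec K v * (xe r (1 : K) * word K L)⁻¹
        = xe r (1 : K) * (word K L * vec K v * (word K L)⁻¹) * (xe r 1)⁻¹ by group, h2,
        conj_step hφ hq hr h1]
      rfl

theorem vec_injective {a b : ℕ} (ha : a < 8) (hb : b < 8) (h : vec K a = vec K b) : a = b := by
  have h1 : vec K (a ^^^ b) = 1 := by
    rw [← vec_add hφ hq ha hb, h, vec_add hφ hq hb hb, Nat.xor_self]
    exact vec_bit.2.2.2
  have hlt : a ^^^ b < 8 := Nat.xor_lt_two_pow (n := 3) ha hb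
  generalize hc : a ^^^ b = c at h1 hlt
  have hpow : ∀ (s : ℕ) (e : Bool), s < 24 →
      xe s (1 : K) ^ e.toNat = xe s (if e then (1 : K) else 0) := by
    rintro s (_ | _) hs
    · simp [xG_zero (K := K) hs]
    · simp
  rw [vec, hpow 6 _ (by decide), hpow 18 _ (by decide), hpow 19 _ (by decide), mul_assoc] at h1
  set P := xe 18 (if c.testBit 1 then (1 : K) else 0) * xe 19 (if c.testBit 2 then (1 : K) else 0)
  have hP : P ∈ XS (QD K).sys.x (↑(posSet chevD4) : Set ℕ) :=
    mul_mem ((QD K).sys.x_mem_U (by decide) (by decide) _)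
      ((QD K).sys.x_mem_U (by decide) (by decide) _)
  have h6 : xe 6 (if c.testBit 0 then (1 : K) else 0) = (1 : ↥(chevD4.group K)) :=
    (QD K).sys.UHV P⁻¹ (inv_mem hP) 1 (one_mem _) _
      (x_mem_XS (Finset.mem_coe.2 (mem_negSet.2 ⟨by decide, by decide⟩)) _)
      (by rw [mul_one]; exact (eq_inv_of_mul_eq_one_left h1).symm)
  rw [h6, one_mul] at h1
  have e0 := xG_inj (QD K) (show 6 < chevD4.nroots by decide)
    (h6.trans (xG_zero (K := K) (show 6 < chevD4.nroots by decide)).symm)
  set t : ℕ → K := fun r =>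
    if r = 18 then (if c.testBit 1 then 1 else 0) else if r = 19 then
      (if c.testBit 2 then 1 else 0) else 0 with ht
  have e1 : xprod (QD K) posL t = xprod (QD K) posL (fun _ => 0) := by
    rw [xprod_sublist (by decide +kernel) t (fun r => r == 18 || r == 19) (fun r _ hr => by
        simp only [Bool.or_eq_false_iff, beq_eq_false_iff_ne] at hr
        simp [ht, hr.1, hr.2]),
      xprod_sublist (by decide +kernel) (fun _ => (0 : K)) (fun _ => false) (fun _ _ _ => rfl),
      show posL.filter (fun r => r == 18 || r == 19) = [18, 19] by decide +kernel]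
    simp only [List.filter_false, xprod, List.map_cons, List.map_nil, List.prod_cons,
      List.prod_nil, mul_one, ht]
    exact h1
  have a1 := coords_inj e1 18 (by simp [posL])
  have a2 := coords_inj e1 19 (by simp [posL])
  simp [ht] at a1 a2
  have : c = 0 := by
    refine Nat.eq_of_testBit_eq fun i => ?_
    rw [Nat.zero_testBit]
    rcases i with _ | _ | _ | i
    · simpa using e0
    · simpa using a1
    · simpa using a2
    · exact Nat.testBit_lt_two_pow (lt_of_lt_of_le hlt
        (show 2 ^ 3 ≤ 2 ^ (i + 1 + 1 + 1) from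
          Nat.pow_le_pow_right (by norm_num) (by omega)))
  rw [this] at hc
  exact (show ∀ a < 8, ∀ b < 8, a ^^^ b = 0 → a = b by decide) a ha b hb hc

theorem run_commute {A B : List ℕ} (hA : ∀ r ∈ A, r ∈ zroots) (hB : ∀ r ∈ B, r ∈ zroots)
    (h : word K A * word K B = word K B * word K A) {e : ℕ} (he : e < 8) :
    run (A ++ B) e = run (B ++ A) e := by
  have hAB : ∀ r ∈ A ++ B, r ∈ zroots := fun r hr => (List.mem_append.1 hr).elim (hA r) (hB r)
  have hBA : ∀ r ∈ B ++ A, r ∈ zroots := fun r hr => (List.mem_append.1 hr).elim (hB r) (hA r)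
  obtain ⟨l1, e1⟩ := conj_word (K := K) hφ hq hAB he
  obtain ⟨l2, e2⟩ := conj_word (K := K) hφ hq hBA he
  refine vec_injective (K := K) hφ hq l1 l2 ?_
  rw [← e1, ← e2, word_append, word_append, h]

theorem nUG_eq_word {r : ℕ} (n : ℕ) (hn : chevD4.neg r = n) :
    nUG (QD K) r (1 : K) = word K [r, n, r] := by
  rw [nUG_eq, hn, inv_one, neg_one_eq hφ hq]
  simp [word, mul_assoc]

theorem nUG_conj {i r r' : ℕ} (hi : i < 4) (hr : r < 24) (h : Weyl.certD4.sigma i r = r') :
    nUG (QD K) (chevD4.simple i) 1 * nUG (QD K) r 1 * (nUG (QD K) (chevD4.simple i) 1)⁻¹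
      = nUG (QD K) r' (1 : K) := by
  refine Subtype.ext ?_
  show (QD K).K.nS K i * (QD K).K.nU K r 1 * ((QD K).K.nS K i)⁻¹ = (QD K).K.nU K r' 1
  rw [(QD K).K.nS_conj_nU K hi hr, ← RootSys.sigma_eq_w (QD K).X.good (QD K).K hi hr]
  have hs : ((QD K).K.sg i r : K) = 1 := by
    rcases (QD K).K.sg_pm i r with h' | h' <;> simp [h', neg_one_eq hφ hq]
  rw [hs, one_mul]
  exact congrArg (fun x => (QD K).K.nU K x 1) h

theorem nUG_self_inv (r : ℕ) : (nUG (QD K) r (1 : K))⁻¹ = nUG (QD K) r 1 := by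
  rw [nUG_inv, neg_one_eq hφ hq]

theorem nword_eq : ∀ p ∈ zwords, nword K p.1 = word K p.2 := by
  have hn14 : nUG (QD K) 14 (1 : K) = word K [14, 9, 14] := nUG_eq_word hφ hq 9 D4.neg_ok.2.2.2
  have hn22 : nUG (QD K) 22 (1 : K) = word K [22, 1, 22] :=
    nUG_eq_word hφ hq 1 (by decide +kernel)
  have hb : nword K [1] = nUG (QD K) 14 (1 : K) := by
    simp only [nword, List.map_cons, List.map_nil, List.prod_cons, List.prod_nil, mul_one]
    rfl
  obtain ⟨o1, o2, o3⟩ := D4.orth_ok
  obtain ⟨s0, s1, s2, s3⟩ := D4.simple_ok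
  have ha : nword K [0, 2, 3, 1, 0, 2, 3] = nUG (QD K) 22 (1 : K) := by
    have c3 := nUG_conj (K := K) hφ hq (i := 3) (r := 14) (r' := 15) (by decide) (by decide) (by decide +kernel)
    have c2 := nUG_conj (K := K) hφ hq (i := 2) (r := 15) (r' := 17) (by decide) (by decide) (by decide +kernel)
    have c0 := nUG_conj (K := K) hφ hq (i := 0) (r := 17) (r' := 22) (by decide) (by decide) (by decide +kernel)
    rw [← c0, ← c2, ← c3, nUG_self_inv hφ hq, nUG_self_inv hφ hq, nUG_self_inv hφ hq]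
    simp only [nword, List.map_cons, List.map_nil, List.prod_cons, List.prod_nil, mul_one, s0, s1,
      s2, s3]
    have k1 := commute_nUG (QD K) o1 (1 : K) 1
    have k2 := commute_nUG (QD K) o2 (1 : K) 1
    have k3 := commute_nUG (QD K) o3 (1 : K) 1
    simp only [mul_assoc]
    have e : nUG (QD K) 12 (1 : K) * (nUG (QD K) 13 1 * nUG (QD K) 18 1)
        = nUG (QD K) 18 1 * (nUG (QD K) 13 1 * nUG (QD K) 12 1) := by
      rw [← mul_assoc, ← k3.eq, mul_assoc, ← k2.eq, ← mul_assoc, ← k1.eq, mul_assoc]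
    rw [e]
  have hsplit : ∀ A B : List ℕ, nword K (A ++ B) = nword K A * nword K B := fun A B => by
    simp [nword]
  intro p hp
  simp only [zwords, List.mem_cons, List.not_mem_nil, or_false] at hp
  rcases hp with rfl | rfl | rfl | rfl | rfl | rfl
  · rfl
  · rw [hb, hn14]
  · rw [ha, hn22]
  · rw [show [1, 0, 2, 3, 1, 0, 2, 3] = [1] ++ [0, 2, 3, 1, 0, 2, 3] from rfl, hsplit, hb, ha,
      hn14, hn22, ← word_append]
    rfl
  · rw [show [0, 2, 3, 1, 0, 2, 3, 1] = [0, 2, 3, 1, 0, 2, 3] ++ [1] from rfl, hsplit, hb, ha,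
      hn14, hn22, ← word_append]
    rfl
  · rw [show [1, 0, 2, 3, 1, 0, 2, 3, 1] = [1] ++ [0, 2, 3, 1, 0, 2, 3] ++ [1] from rfl, hsplit,
      hsplit, hb, ha, hn14, hn22, ← word_append, ← word_append]
    rfl

theorem word_fixed {L : List ℕ} (hL : ∀ r ∈ L, r ∈ zroots) :
    (endo φ).σ (word K L) = word K L := by
  rw [word, map_list_prod, List.map_map]
  refine congrArg List.prod (List.map_congr_left fun r hr => ?_)
  show (endo φ).σ (xe r 1) = xe r 1
  obtain ⟨h1, h2, -⟩ := fixRoots r (hL r hr)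
  rw [σ_two hφ hq h1, h2, one_pow]

theorem pos_word {t : ℕ → K} (hfix : (endo φ).σ (xprod (QD K) posL t) = xprod (QD K) posL t)
    (hz : ∀ r ∈ posL, r ∉ [14, 22, 23] → t r = 0) :
    ∃ b : Bool × Bool × Bool, xprod (QD K) posL t = word K (bitWord b) ∧
      (b.1 = true → t 14 ≠ 0) ∧ (b.2.1 = true → t 22 ≠ 0) ∧ (b.2.2 = true → t 23 ≠ 0) := by
  classical
  have e : ∀ t : ℕ → K, (∀ r ∈ posL, r ∉ [14, 22, 23] → t r = 0) →
      xprod (QD K) posL t = xe 14 (t 14) * xe 22 (t 22) * xe 23 (t 23) := by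
    intro t hz
    rw [xprod_sublist (by decide +kernel) t (fun r => [14, 22, 23].contains r) (fun r hr h =>
        hz r hr (by simpa using h)),
      show posL.filter (fun r => [14, 22, 23].contains r) = [14, 22, 23] by decide +kernel]
    simp [xprod, mul_assoc]
  set t2 : ℕ → K := fun r => t r ^ 2 with ht2
  have hfix2 : xprod (QD K) posL t2 = xprod (QD K) posL t := by
    rw [← hfix, e t hz, e t2 (fun r hr h => by simp [ht2, hz r hr h]), map_mul, map_mul,
      σ_two hφ hq (by decide), σ_two hφ hq (by decide), σ_two hφ hq (by decide),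
      D4.rh_ok.2.2.2.1, show tables.rh 22 = 22 by decide +kernel,
      show tables.rh 23 = 23 by decide +kernel]
  have hbit : ∀ r ∈ [14, 22, 23], t r = if t r = 0 then 0 else 1 := by
    intro r hr
    have h := coords_inj hfix2 r ((show ∀ r ∈ [14, 22, 23], r ∈ posL by decide) r hr)
    split_ifs with h0
    · exact h0
    · exact mul_left_cancel₀ h0 (by rw [mul_one, ← pow_two]; exact h)
  refine ⟨(decide (t 14 ≠ 0), decide (t 22 ≠ 0), decide (t 23 ≠ 0)), ?_, by simp, by simp, by simp⟩
  rw [e t hz, hbit 14 (by simp), hbit 22 (by simp), hbit 23 (by simp)]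
  simp only [bitWord, word_append]
  refine congrArg₂ (· * ·) (congrArg₂ (· * ·) ?_ ?_) ?_
  · by_cases h : t 14 = 0 <;>
      simp [h, word, xG_zero (K := K) (show (14 : ℕ) < chevD4.nroots by decide)]
  · by_cases h : t 22 = 0 <;>
      simp [h, word, xG_zero (K := K) (show (22 : ℕ) < chevD4.nroots by decide)]
  · by_cases h : t 23 = 0 <;>
      simp [h, word, xG_zero (K := K) (show (23 : ℕ) < chevD4.nroots by decide)]

theorem word_X_order : orderOf (word K [14, 9]) = 3 := by
  haveI : Fact (Nat.Prime 3) := ⟨Nat.prime_three⟩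
  refine orderOf_eq_prime ?_ ?_
  · have e : word K [14, 9] = lev K (upMat 1 * lowMat 1) := by
      rw [map_mul, lev_up, lev_low]; simp [word]
    rw [e, ← map_pow]
    refine (congrArg (lev K) (sl2_ext ?_)).trans (map_one (lev K))
    have h2 : (1 : K) + 1 = 0 := two_eq hφ hq
    simp only [pow_succ, pow_zero, one_mul, Matrix.SpecialLinearGroup.coe_mul, upMat_coe,
      lowMat_coe, Matrix.mul_fin_two, Matrix.SpecialLinearGroup.coe_one]
    rw [Matrix.one_fin_two]
    simp [h2]
  · intro h1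
    have hX : ∀ r ∈ [14, 9], r ∈ zroots := by decide
    have he : ∀ e, e < 8 → run [14, 9] e = e := fun e he => by
      obtain ⟨l, h⟩ := conj_word (K := K) hφ hq hX he
      rw [h1, one_mul, inv_one, mul_one] at h
      exact (vec_injective (K := K) hφ hq he l h).symm
    rcases run_X with h | h
    · exact h (he 2 (by decide))
    · exact h (he 4 (by decide))

variable [Fintype K] (hK : Fintype.card K = q ^ 3)
include hK

theorem unit_pow_seven (w : Kˣ) : w ^ (7 : ℕ) = 1 := by
  classical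
  have h7 : Fintype.card Kˣ = 7 := by rw [Fintype.card_units, hK, hq]; norm_num
  rw [← h7]
  exact pow_card_eq_one

theorem zc_eq (w : Kˣ) : zc q w = par q (w ^ 2) 1 := by
  rw [zc, show nexp q = 7 by rw [hq]; rfl, unit_pow_seven hφ hq hK]

theorem par_commute_word (u : Kˣ) {L : List ℕ} (hL : ∀ r ∈ L, r ∈ zroots) :
    Commute (tG (QD K) (par q u 1)) (word K L) := by
  have hu : par q u 1 = zc q (u ^ 4) := by
    rw [zc_eq hφ hq hK, ← pow_mul, show 4 * 2 = 7 + 1 by rfl, pow_succ,
      unit_pow_seven hφ hq hK, one_mul]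
  refine Commute.list_prod_right _ _ fun g hg => ?_
  obtain ⟨r, hr, rfl⟩ := List.mem_map.1 hg
  obtain ⟨h1, -, h3⟩ := fixRoots r (hL r hr)
  have hone : chT (par q u 1) r = 1 := by
    rw [hu, chT_zc, hq]
    obtain ⟨m, hm⟩ := Int.dvd_of_emod_eq_zero h3
    rw [hm, zpow_mul, zpow_ofNat, unit_pow_seven hφ hq hK, one_zpow]
  have e := tG_conj (QD K) (par q u 1) h1 (1 : K)
  rw [hone, Units.val_one, one_mul, mul_inv_eq_iff_eq_mul] at e
  exact e

theorem exists_tau_two :
    ∃ τ : ↥(chevD4.group K), (endo φ).σ τ = τ ∧ orderOf τ = (q ^ 3 - 1) * (q + 1) ∧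
      ∀ g, (endo φ).σ g = g → g * τ = τ * g → g ∈ Subgroup.zpowers τ := by
  classical
  haveI : Fact (Nat.Prime 7) := ⟨by norm_num⟩
  obtain ⟨η, hη⟩ := IsCyclic.exists_generator (α := Kˣ)
  have oη : orderOf η = 7 := by
    rw [orderOf_eq_card_of_forall_mem_zpowers hη, Nat.card_units, Nat.card_eq_fintype_card, hK, hq]
    norm_num
  set Z := tG (QD K) (par q η 1) with hZ
  set X := word K [14, 9] with hX'
  have hX : ∀ r ∈ [14, 9], r ∈ zroots := by decide
  have oZ : orderOf Z = 7 := by
    refine orderOf_eq_prime ?_ fun h => ?_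
    · rw [hZ, ← map_pow, par_pow,
        unit_pow_seven hφ hq hK, par_one, map_one]
    · have h1 := fixed_ker (φ := φ) (par_fixed hK η (one_pow q)) h
      have h2 : η = 1 := congrFun h1 (0 : Fin 4)
      rw [h2, orderOf_one] at oη
      exact absurd oη (by norm_num)
  have oX : orderOf X = 3 := word_X_order hφ hq
  have hZX : Commute Z X := par_commute_word hφ hq hK η hX
  have oτ : orderOf (Z * X) = 21 := by
    rw [hZX.orderOf_mul_eq_mul_orderOf_of_coprime (by rw [oZ, oX]; norm_num), oZ, oX]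
  have hτf : (endo φ).σ (Z * X) = Z * X := by
    rw [map_mul, σ_par hφ hK η (one_pow q), word_fixed hφ hq hX]
  refine ⟨Z * X, hτf, by rw [oτ, hq]; rfl, fun g hg hc => ?_⟩
  have hZmem : Z ∈ Subgroup.zpowers (Z * X) := by
    refine Subgroup.mem_zpowers_iff.2 ⟨15, ?_⟩
    rw [show (15 : ℤ) = ((15 : ℕ) : ℤ) from rfl, zpow_natCast, hZX.mul_pow, ← pow_mod_orderOf Z,
      ← pow_mod_orderOf X, oZ, oX]
    norm_num
  have hXmem : X ∈ Subgroup.zpowers (Z * X) := by
    have h := mul_mem (inv_mem hZmem) (Subgroup.mem_zpowers (Z * X))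
    rwa [inv_mul_cancel_left] at h
  have hcZ : Commute g Z := by
    obtain ⟨k, hk⟩ := Subgroup.mem_zpowers_iff.1 hZmem
    rw [← hk]; exact Commute.zpow_right hc k
  have hcX : Commute g X := by
    obtain ⟨k, hk⟩ := Subgroup.mem_zpowers_iff.1 hXmem
    rw [← hk]; exact Commute.zpow_right hc k
  have hz : ∀ w : Kˣ, g * tG (QD K) (zc q w) = tG (QD K) (zc q w) * g := by
    intro w
    obtain ⟨i, hi⟩ := (mem_powers_iff_mem_zpowers (x := η) (y := w ^ 2)).2 (hη _)
    change η ^ i = w ^ 2 at hi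
    rw [zc_eq hφ hq hK, ← hi, ← par_pow, map_pow]
    exact (hcZ.pow_right i).eq
  obtain ⟨t, s, h, hh, v, hv, rfl, ht, hs, hn, hUw, hzero, hw⟩ := cent_form hφ hK hg hz
  have hne : ∀ r ∈ posL, r ∉ [14, 22, 23] → t r = 0 ∧ s r = 0 := by
    intro r hr h'
    refine hzero r hr ⟨η, fun e => posZero r hr h' ?_⟩
    rw [← orderOf_dvd_iff_zpow_eq_one, oη, hq] at e
    exact Int.emod_eq_zero_of_dvd e
  obtain ⟨p, hp, rfl⟩ := zwords_complete v hv fun r hr => by
    have e := hw r hr η
    rw [zpow_eq_zpow_iff_modEq, oη, Int.modEq_iff_dvd, hq] at e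
    exact Int.emod_eq_zero_of_dvd (by rw [← neg_sub]; exact e.neg_right)
  obtain ⟨a, ea, -⟩ := pos_word hφ hq ht (fun r hr h' => (hne r hr h').1)
  obtain ⟨b, eb, hb1, hb2, hb3⟩ := pos_word hφ hq hs (fun r hr h' => (hne r hr h').2)
  have hsup : supported p.1 b = true := by
    set L := flipList Weyl.certD4 chevD4 p.1 with hL
    have hflip : Sys.flip (QD K).X.good (Weyl.wOf (QD K).X.M p.1) = L.toFinset :=
      flip_word (QD K).X.good (zwords_flip p hp)
    obtain ⟨s', hs'⟩ := exists_xprod (QD K) (L := L) (flipList_sorted p.1)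
      (by rw [← hflip]; exact (QD K).sys.closed_flip _)
      (by rw [← hflip]; exact hUw)
    have hs0 : ∀ r ∈ posL, L.contains r = false → s r = 0 := by
      intro r hr hc'
      set s'' : ℕ → K := fun r => if L.contains r then s' r else 0 with hs''
      have e : xprod (QD K) posL s'' = xprod (QD K) posL s := by
        rw [hs', xprod_sublist (by decide +kernel) s'' (fun r => L.contains r)
          (fun r _ h => by simp only [hs'', h]; simp), flip_in p hp]
        exact xprod_congr (QD K) fun r hr => by simp [hs'', hL, hr]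
      have := coords_inj e r hr
      simp only [hs'', hc'] at this
      simpa using this.symm
    simp only [supported, Bool.and_eq_true, Bool.or_eq_true, Bool.not_eq_true', ← hL]
    refine ⟨⟨?_, ?_⟩, ?_⟩
    · by_contra hcon; push Not at hcon
      exact hb1 (by simpa using hcon.1) (hs0 14 (by decide) (by simpa using hcon.2))
    · by_contra hcon; push Not at hcon
      exact hb2 (by simpa using hcon.1) (hs0 22 (by decide) (by simpa using hcon.2))
    · by_contra hcon; push Not at hcon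
      exact hb3 (by simpa using hcon.1) (hs0 23 (by decide) (by simpa using hcon.2))
  have hgenP : ∀ r ∈ bitWord a ++ p.2 ++ bitWord b, r ∈ zroots := by
    intro r hr
    simp only [List.mem_append] at hr
    rcases hr with (h | h) | h
    · exact bitWord_gen a r h
    · exact zwords_gen p hp r h
    · exact bitWord_gen b r h
  rw [nword_eq hφ hq p hp] at hn hcX ⊢
  have hfix : (endo φ).σ h = h := by
    rw [map_mul, word_fixed hφ hq (zwords_gen p hp)] at hn
    exact mul_right_cancel hn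
  obtain ⟨u, y, hy, eh⟩ := exists_par hφ hK hh hfix
  obtain rfl : y = 1 := by
    rw [hq, pow_two] at hy
    exact mul_eq_left.1 hy
  have hhc : ∀ {L : List ℕ}, (∀ r ∈ L, r ∈ zroots) → Commute h (word K L) := fun hL =>
    eh ▸ par_commute_word hφ hq hK u hL
  have eg : xprod (QD K) posL t * h * word K p.2 * xprod (QD K) posL s
      = h * word K (bitWord a ++ p.2 ++ bitWord b) := by
    rw [ea, eb, ← (hhc (bitWord_gen a)).eq, word_append, word_append]
    simp only [mul_assoc]
  rw [eg] at hcX ⊢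
  have hm : word K (bitWord a ++ p.2 ++ bitWord b) * X
      = X * word K (bitWord a ++ p.2 ++ bitWord b) := by
    have e := hcX.eq
    rw [mul_assoc, ← mul_assoc X, ← (hhc hX).eq, mul_assoc] at e
    exact mul_left_cancel e
  have hhmem : h ∈ Subgroup.zpowers (Z * X) := by
    obtain ⟨i, hi⟩ := (mem_powers_iff_mem_zpowers (x := η) (y := u)).2 (hη _)
    change η ^ i = u at hi
    rw [← eh, ← hi, ← par_pow, map_pow]
    exact pow_mem hZmem i
  refine mul_mem hhmem ?_
  have h14 : xe 14 (1 : K) * xe 14 1 = 1 := xe_sq hφ hq (by decide)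
  have h9 : xe 9 (1 : K) * xe 9 1 = 1 := xe_sq hφ hq (by decide)
  rcases List.mem_cons.1 (classify p hp a b hsup fun e he =>
    run_commute hφ hq hgenP hX hm he) with e | e
  · rw [e]; exact one_mem _
  rcases List.mem_cons.1 e with e | e
  · rw [e, show word K [14, 9, 14, 14] = X from by
      simp [hX', word, h14]]
    exact hXmem
  · rw [List.mem_singleton.1 e, show word K [14, 14, 9, 14] = X⁻¹ from by
      refine eq_inv_of_mul_eq_one_left ?_
      simp only [hX', word, List.map_cons, List.map_nil, List.prod_cons, List.prod_nil, mul_one,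
        mul_assoc]
      rw [← mul_assoc (xe 14 (1 : K)) (xe 14 1), h14, one_mul, ← mul_assoc (xe 14 (1 : K)) (xe 14 1),
        h14, one_mul, h9]]
    exact inv_mem hXmem

end Two

end Cfsg.Agent.D4Cyclic
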